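import Mathlib
import Cfsg.Prelude.Def_Characters
import Cfsg.Prelude.Def_Solvable
import Cfsg.Prelude.Def_Transfer

/-!
# S4751 farm: shared definitions (helper24)

`Hyp p χ`: the hypotheses of S4751 on the class function `χ`.
`ANP p A`: `A` is a nontrivial abelian normal `p`-subgroup.
-/

set_option autoImplicit false

namespace Cfsg.Agent.Lib.Helper24.RU

/-- The hypotheses of S4751: `χ` is a faithful nonlinear irreducible character whose values at
`p`-singular elements are roots of unity. -/
structure Hyp {G : Type*} [Group G] (p : ℕ) (χ : G → ℂ) : Prop where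
  irr : Cfsg.IsIrrCharacter G χ
  faith : ∀ g : G, χ g = χ 1 → g = 1
  nl : χ 1 ≠ 1
  root : ∀ g : G, p ∣ orderOf g → ∃ n : ℕ, 0 < n ∧ χ g ^ n = 1

/-- `A` is a nontrivial abelian normal `p`-subgroup of `G`. -/
structure ANP {G : Type*} [Group G] (p : ℕ) (A : Subgroup G) : Prop where
  normal : A.Normal
  pgroup : IsPGroup p A
  comm : ∀ x ∈ A, ∀ y ∈ A, x * y = y * x
  ne_bot : A ≠ ⊥

end Cfsg.Agent.Lib.Helper24.RU
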