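import Mathlib
import Cfsg.Prelude.Def_Characters
import Cfsg.Prelude.Def_Solvable
import Cfsg.Prelude.Def_Transfer
import Cfsg.Agent.Lib.Helper24.RU.Defs
import Cfsg.Agent.Lib.Helper11.Clifford

/-!
# S4751 farm, leaf N01 (architect helper24)

Keep the name, namespace and statement of `sum_normSq` exactly; replace only the `sorry`
(auxiliary lemmas with fresh names may be added above it in this file).
-/

set_option autoImplicit false

namespace Cfsg.Agent.Lib.Helper24.RU

open scoped ComplexConjugate

variable {G : Type*} [Group G] [Fintype G] {p : ℕ} [Fact p.Prime] {χ : G → ℂ}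

namespace Helper6

/-- a complex root of unity has `z * conj z = 1` -/
theorem mul_conj_eq_one_of_pow {z : ℂ} {n : ℕ} (hn : 0 < n) (hz : z ^ n = 1) :
    z * conj z = 1 := by
  have h1 : ‖z‖ = 1 := Cfsg.Agent.Lib.Helper2.norm_eq_one_of_pow_eq_one hn.ne' hz
  rw [Complex.mul_conj, Complex.normSq_eq_norm_sq, h1]
  simp

end Helper6

/-- [N01] norm-square sum of `χ` over a `p`-subgroup `P`: every nonidentity element of `P` is `p`-singular, so `χ x * conj (χ x) = 1` there. -/
theorem sum_normSq (h : Hyp p χ) (P : Subgroup G) (hP : IsPGroup p P) [Fintype P] :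
    ∑ x : P, χ x * conj (χ x) = χ 1 * χ 1 + ((Nat.card P : ℂ) - 1) := by
  classical
  have hp : p.Prime := Fact.out
  obtain ⟨n, hn1, -⟩ := Cfsg.Agent.Lib.Helper11.IsCharacter.exists_degree_norm_le
    (Cfsg.Agent.Lib.Helper2.IsIrrCharacter.isCharacter h.irr)
  have hone : ∀ x : P, x ≠ 1 → χ x * conj (χ x) = 1 := by
    intro x hx
    obtain ⟨k, hk⟩ := hP x
    have hxG : (x : G) ≠ 1 := fun h1 => hx (Subtype.ext h1)
    have hdvd : p ∣ orderOf (x : G) := by
      have hpow : (x : G) ^ p ^ k = 1 := by
        have := congrArg Subtype.val hk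
        simpa using this
      have h2 : orderOf (x : G) ∣ p ^ k := orderOf_dvd_of_pow_eq_one hpow
      obtain ⟨j, hj, hj2⟩ := (Nat.dvd_prime_pow hp).1 h2
      rcases Nat.eq_zero_or_pos j with rfl | hjpos
      · exfalso
        apply hxG
        rw [pow_zero] at hj2
        exact orderOf_eq_one_iff.1 hj2
      · rw [hj2]
        exact dvd_pow_self p hjpos.ne'
    obtain ⟨m, hm, hm1⟩ := h.root (x : G) hdvd
    exact Helper6.mul_conj_eq_one_of_pow hm hm1
  rw [← Finset.add_sum_erase Finset.univ _ (Finset.mem_univ (1 : P))]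
  have h1 : χ ((1 : P) : G) * conj (χ ((1 : P) : G)) = χ 1 * χ 1 := by
    rw [Subgroup.coe_one, hn1]
    simp
  rw [h1]
  congr 1
  rw [Finset.sum_congr rfl (fun x hx => hone x (Finset.ne_of_mem_erase hx))]
  rw [Finset.sum_const, Finset.card_erase_of_mem (Finset.mem_univ _), Finset.card_univ,
    nsmul_eq_mul, mul_one, Nat.card_eq_fintype_card]
  have : 1 ≤ Fintype.card P := Fintype.card_pos
  push_cast [Nat.cast_sub this]
  ring

end Cfsg.Agent.Lib.Helper24.RU
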