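import Mathlib
import Cfsg.Prelude.Def_Characters
import Cfsg.Prelude.Def_Solvable
import Cfsg.Prelude.Def_Transfer
import Cfsg.Agent.Lib.Helper24.RU.Defs
import Cfsg.Agent.Lib.Helper11.Clifford

/-!
# S4751 farm, leaf N02 (architect helper24)

Keep the name, namespace and statement of `arith_et` exactly; replace only the `sorry`
(auxiliary lemmas with fresh names may be added above it in this file).
-/

set_option autoImplicit false

namespace Cfsg.Agent.Lib.Helper24.RU

open scoped ComplexConjugate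

/-- [N02] arithmetic: `e² t (a - t) = a - 1` with `1 ≤ t ≤ a` forces `e = 1` and `t ∈ {1, a - 1}`. -/
theorem arith_et (e t a : ℕ) (he : 1 ≤ e) (ht : 1 ≤ t) (hta : t ≤ a) (ha : 2 ≤ a)
    (h : e * e * t * a + 1 = e * e * t * t + a) : e = 1 ∧ (t = 1 ∨ t + 1 = a) := by
  obtain ⟨s, rfl⟩ := Nat.exists_eq_add_of_le hta
  have h1 : e * e * t * s + 1 = t + s := by
    have h0 : e * e * t * (t + s) = e * e * t * t + e * e * t * s := by ring
    rw [h0] at h
    omega
  have hs : 1 ≤ s := by
    rcases Nat.eq_zero_or_pos s with rfl | hs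
    · rw [Nat.mul_zero] at h1
      omega
    · exact hs
  obtain ⟨e', rfl⟩ := Nat.exists_eq_add_of_le he
  obtain ⟨t', rfl⟩ := Nat.exists_eq_add_of_le ht
  obtain ⟨s', rfl⟩ := Nat.exists_eq_add_of_le hs
  have h2 : t' * s' + (e' * e' + 2 * e') * (t' * s' + t' + s' + 1) = 0 := by
    have h3 : (1 + e') * (1 + e') * (1 + t') * (1 + s')
        = (t' * s' + t' + s' + 1) + (e' * e' + 2 * e') * (t' * s' + t' + s' + 1) := by ring
    rw [h3] at h1
    omega
  obtain ⟨h4, h5⟩ := Nat.add_eq_zero_iff.mp h2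
  have h6 : e' * e' + 2 * e' = 0 := by
    rcases Nat.mul_eq_zero.mp h5 with h | h
    · exact h
    · omega
  have he' : e' = 0 := by omega
  refine ⟨by omega, ?_⟩
  rcases Nat.mul_eq_zero.mp h4 with h | h
  · left; omega
  · right; omega

end Cfsg.Agent.Lib.Helper24.RU
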