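import Mathlib
import Cfsg.Prelude.Def_Characters
import Cfsg.Prelude.Def_Solvable
import Cfsg.Prelude.Def_Transfer
import Cfsg.Agent.Lib.Helper24.RU.Defs
import Cfsg.Agent.Lib.Helper11.Clifford

/-!
# S4751 farm, leaf N03 (architect helper24)

Keep the name, namespace and statement of `clifford_data` exactly; replace only the `sorry`
(auxiliary lemmas with fresh names may be added above it in this file).
-/

set_option autoImplicit false

namespace Cfsg.Agent.Lib.Helper24.RU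

open scoped ComplexConjugate

variable {G : Type*} [Group G] [Fintype G] {p : ℕ} [Fact p.Prime] {χ : G → ℂ}

/-- [N03] Clifford's theorem in Finset form, for any normal subgroup `N`: the constituents `T` of `χ|_N` all have the same multiplicity `e` and are pairwise conjugate (use `Helper11.clifford_conj`, `Helper11.classInner_restrict_conjFn`, `Helper2.classInner_isCharacter_nat`). -/
theorem clifford_data (hχ : Cfsg.IsIrrCharacter G χ) (N : Subgroup G) [N.Normal] [Fintype N]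
    [Fintype (Cfsg.IrrCharacter N)] :
    ∃ (e : ℕ) (T : Finset (Cfsg.IrrCharacter N)), 0 < e ∧ T.Nonempty ∧
      (∀ ψ ∈ T, Cfsg.classInner (fun n : N => χ n) (ψ : N → ℂ) = (e : ℂ)) ∧
      (∀ ψ : Cfsg.IrrCharacter N, ψ ∉ T → Cfsg.classInner (fun n : N => χ n) (ψ : N → ℂ) = 0) ∧
      (∀ ψ ∈ T, ∀ φ ∈ T, ∃ g : G,
        (φ : N → ℂ) = Cfsg.Agent.Lib.Helper11.conjFn N g (ψ : N → ℂ)) := by
  classical
  have hχc : Cfsg.IsCharacter G χ := Cfsg.Agent.Lib.Helper2.IsIrrCharacter.isCharacter hχ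
  have hχcf : Cfsg.IsClassFunction G χ := Cfsg.Agent.Lib.Helper2.IsCharacter.isClassFunction hχc
  have hres : Cfsg.IsCharacter N (fun n : N => χ n) :=
    Cfsg.Agent.Lib.Helper2.IsCharacter.restrict hχc N
  have hrescf : Cfsg.IsClassFunction N (fun n : N => χ n) :=
    Cfsg.Agent.Lib.Helper2.IsCharacter.isClassFunction hres
  set T : Finset (Cfsg.IrrCharacter N) :=
    Finset.univ.filter (fun ψ : Cfsg.IrrCharacter N =>
      Cfsg.classInner (fun n : N => χ n) (ψ : N → ℂ) ≠ 0) with hT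
  have hmemT : ∀ ψ : Cfsg.IrrCharacter N,
      ψ ∈ T ↔ Cfsg.classInner (fun n : N => χ n) (ψ : N → ℂ) ≠ 0 := by
    intro ψ
    rw [hT, Finset.mem_filter]
    simp
  have hTne : T.Nonempty := by
    by_contra hemp
    rw [Finset.not_nonempty_iff_eq_empty] at hemp
    have hall : ∀ ψ : Cfsg.IrrCharacter N,
        Cfsg.classInner (fun n : N => χ n) (ψ : N → ℂ) = 0 := by
      intro ψ
      by_contra hne
      have : ψ ∈ T := (hmemT ψ).2 hne
      rw [hemp] at this
      exact absurd this (Finset.notMem_empty _)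
    have h0 := Cfsg.Agent.Lib.Helper2.eq_zero_of_classInner_irr_eq_zero _ hrescf hall
    have h1 := congrFun h0 (1 : N)
    exact Cfsg.Agent.Lib.Helper2.IsIrrCharacter.apply_one_ne_zero hχ (by simpa using h1)
  obtain ⟨ψ0, hψ0⟩ := hTne
  obtain ⟨e, he⟩ := Cfsg.Agent.Lib.Helper2.classInner_isCharacter_nat hres
    (Cfsg.Agent.Lib.Helper2.IsIrrCharacter.isCharacter ψ0.2)
  have hconj : ∀ ψ ∈ T, ∀ φ ∈ T, ∃ g : G,
      (φ : N → ℂ) = Cfsg.Agent.Lib.Helper11.conjFn N g (ψ : N → ℂ) := by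
    intro ψ hψ φ hφ
    exact Cfsg.Agent.Lib.Helper11.clifford_conj N hχ ψ.2 φ.2 ((hmemT ψ).1 hψ) ((hmemT φ).1 hφ)
  refine ⟨e, T, ?_, ⟨ψ0, hψ0⟩, ?_, ?_, hconj⟩
  · rcases Nat.eq_zero_or_pos e with h0 | hpos
    · exfalso
      apply (hmemT ψ0).1 hψ0
      rw [he, h0, Nat.cast_zero]
    · exact hpos
  · intro ψ hψ
    obtain ⟨g, hg⟩ := hconj ψ0 hψ0 ψ hψ
    rw [hg, Cfsg.Agent.Lib.Helper11.classInner_restrict_conjFn N hχcf g, he]
  · intro ψ hψ
    by_contra hne
    exact hψ ((hmemT ψ).2 hne)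

end Cfsg.Agent.Lib.Helper24.RU
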