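import Mathlib
import Cfsg.Prelude.Def_Characters
import Cfsg.Prelude.Def_Solvable
import Cfsg.Prelude.Def_Transfer
import Cfsg.Agent.Lib.Helper24.RU.Defs
import Cfsg.Agent.Lib.Helper11.Clifford
import Cfsg.Agent.Lib.Helper24.RU.N01
import Cfsg.Agent.Lib.Helper24.RU.N02
import Cfsg.Agent.Lib.Helper24.RU.N03
import Cfsg.Agent.Lib.Helper24.S3282CT45

/-!
# S4751 farm, leaf N04 (architect helper24)

Keep the name, namespace and statement of `mult_eq` exactly; replace only the `sorry`
(auxiliary lemmas with fresh names may be added above it in this file).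
-/

set_option autoImplicit false

namespace Cfsg.Agent.Lib.Helper24.RU

open scoped ComplexConjugate

variable {G : Type*} [Group G] [Fintype G] {p : ℕ} [Fact p.Prime] {χ : G → ℂ}

namespace Helper9

open Cfsg.Agent.Lib.Helper2 Cfsg.Agent.Lib.Helper11 Cfsg.Agent.Lib.Helper24.S3282CT45

omit [Fintype G] in
/-- the restriction of a class function to a subgroup is a class function -/
theorem res_isClassFunction (hχ : Cfsg.IsClassFunction G χ) (A : Subgroup G) :
    Cfsg.IsClassFunction A (fun a : A => χ a) := by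
  intro g h
  have := hχ (g : G) (h : G)
  simpa using this

/-- the heart of N04 -/
theorem mult_data (h : Hyp p χ) {A : Subgroup G} (hA : ANP p A) [Fintype A]
    [Fintype (Cfsg.IrrCharacter A)] [DecidableEq (Cfsg.IrrCharacter A)] :
    ∃ T : Finset (Cfsg.IrrCharacter A),
      (∀ ψ ∈ T, Cfsg.classInner (fun a : A => χ a) (ψ : A → ℂ) = 1) ∧
      (∀ ψ : Cfsg.IrrCharacter A, ψ ∉ T →
        Cfsg.classInner (fun a : A => χ a) (ψ : A → ℂ) = 0) ∧
      T = Finset.univ.erase ⟨fun _ => (1 : ℂ), isIrr_one A⟩ := by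
  classical
  have := hA.normal
  obtain ⟨e, T, he, hTne, hT1, hT0, hconj⟩ := clifford_data h.irr A
  set res : A → ℂ := fun a : A => χ a with hres
  have hcf : Cfsg.IsClassFunction A res :=
    res_isClassFunction (IsCharacter.isClassFunction (IsIrrCharacter.isCharacter h.irr)) A
  -- expansion
  have hexp := classFunction_expansion res hcf
  have hcoef : ∀ μ : Cfsg.IrrCharacter A,
      Cfsg.classInner res (μ : A → ℂ) = if μ ∈ T then (e : ℂ) else 0 := by
    intro μ
    by_cases hμ : μ ∈ T
    · rw [if_pos hμ]; exact hT1 μ hμ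
    · rw [if_neg hμ]; exact hT0 μ hμ
  have hexp2 : res = ∑ μ ∈ T, (e : ℂ) • (μ : A → ℂ) := by
    conv_lhs => rw [hexp]
    simp_rw [hcoef, ite_smul, zero_smul]
    rw [Finset.sum_ite_mem, Finset.univ_inter]
  -- degree
  have hdeg : χ 1 = (e : ℂ) * (T.card : ℂ) := by
    have h1 : res 1 = χ 1 := by simp [hres]
    rw [← h1, hexp2]
    simp only [Finset.sum_apply, Pi.smul_apply, smul_eq_mul]
    rw [Finset.sum_congr rfl (g := fun _ => (e : ℂ))
      (fun μ _ => by rw [(CT5_mul hA.comm μ.2).1, mul_one])]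
    simp [mul_comm]
  -- norm
  have hnorm : Cfsg.classInner res res = (e : ℂ) * (e : ℂ) * (T.card : ℂ) := by
    have h1 : Cfsg.classInner res res
        = Cfsg.classInner (∑ μ ∈ T, (e : ℂ) • (μ : A → ℂ)) res := by rw [← hexp2]
    rw [h1, classInner_sum_left]
    rw [Finset.sum_congr rfl (g := fun _ => (e : ℂ) * (e : ℂ)) (fun μ hμ => by
      rw [classInner_smul_left, ← classInner_conj_symm, hT1 μ hμ]; simp)]
    simp [mul_comm]
  have hN01 := sum_normSq h A hA.pgroup
  have hsum : ∑ x : A, χ x * conj (χ x) = (Nat.card A : ℂ) * Cfsg.classInner res res := by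
    unfold Cfsg.classInner
    rw [← mul_assoc, mul_inv_cancel₀ card_ne_zero_complex, one_mul]
  rw [hsum, hnorm, hdeg] at hN01
  have hnat : e * e * T.card * Nat.card A + 1 = e * e * T.card * T.card + Nat.card A := by
    have : ((e * e * T.card * Nat.card A + 1 : ℕ) : ℂ)
        = ((e * e * T.card * T.card + Nat.card A : ℕ) : ℂ) := by
      push_cast
      linear_combination hN01
    exact_mod_cast this
  have hcard : Fintype.card (Cfsg.IrrCharacter A) = Nat.card A := CT5_card hA.comm
  have hta : T.card ≤ Nat.card A := by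
    rw [← hcard]; exact Finset.card_le_univ T
  have ha2 : 2 ≤ Nat.card A := by
    have h1 : Nat.card A ≠ 1 := by
      intro h1
      exact hA.ne_bot (Subgroup.card_eq_one.mp h1)
    have h0 : 0 < Nat.card A := Nat.card_pos
    omega
  have ht1 : 1 ≤ T.card := Finset.card_pos.mpr hTne
  obtain ⟨he1, hcase⟩ := arith_et e T.card (Nat.card A) he ht1 hta ha2 hnat
  have htne1 : T.card ≠ 1 := by
    intro ht
    apply h.nl
    rw [hdeg, he1, ht]; simp
  have hta1 : T.card + 1 = Nat.card A := by
    rcases hcase with hc | hc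
    · exact absurd hc htne1
    · exact hc
  have hprin : (⟨fun _ => (1 : ℂ), isIrr_one A⟩ : Cfsg.IrrCharacter A) ∉ T := by
    intro hp
    apply htne1
    apply le_antisymm _ ht1
    rw [← Finset.card_singleton (⟨fun _ => (1 : ℂ), isIrr_one A⟩ : Cfsg.IrrCharacter A)]
    apply Finset.card_le_card
    intro φ hφ
    obtain ⟨g, hg⟩ := hconj _ hp φ hφ
    rw [Finset.mem_singleton]
    apply Subtype.ext
    rw [hg]
    funext a
    rfl
  refine ⟨T, ?_, hT0, ?_⟩
  · intro ψ hψ
    rw [hT1 ψ hψ, he1]; simp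
  · apply Finset.eq_of_subset_of_card_le
    · intro φ hφ
      rw [Finset.mem_erase]
      refine ⟨?_, Finset.mem_univ _⟩
      rintro rfl
      exact hprin hφ
    · rw [Finset.card_erase_of_mem (Finset.mem_univ _), Finset.card_univ, hcard]
      omega

end Helper9

/-- [N04] the multiplicities of `χ|_A`: every nonprincipal irreducible (= linear) character of `A` occurs exactly once, the principal one does not occur. (Clifford data `e, T` from N03; `χ 1 = e |T|`; `∑_A |χ|² = |A| e² |T|`; N01, N02 give `e = 1`, `|T| = |A| - 1`; the principal character is not in `T`.) -/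
theorem mult_eq (h : Hyp p χ) {A : Subgroup G} (hA : ANP p A) [Fintype A]
    (ψ : Cfsg.IrrCharacter A) :
    ((ψ : A → ℂ) = (fun _ => (1 : ℂ)) → Cfsg.classInner (fun a : A => χ a) (ψ : A → ℂ) = 0) ∧
    ((ψ : A → ℂ) ≠ (fun _ => (1 : ℂ)) → Cfsg.classInner (fun a : A => χ a) (ψ : A → ℂ) = 1) := by
  classical
  haveI : Fintype (Cfsg.IrrCharacter A) := Fintype.ofFinite _
  obtain ⟨T, hT1, hT0, hTeq⟩ := Helper9.mult_data h hA
  constructor
  · intro hψ
    apply hT0
    rw [hTeq, Finset.mem_erase]
    intro hc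
    exact hc.1 (Subtype.ext hψ)
  · intro hψ
    apply hT1
    rw [hTeq, Finset.mem_erase]
    refine ⟨?_, Finset.mem_univ _⟩
    intro hc
    apply hψ
    rw [hc]

end Cfsg.Agent.Lib.Helper24.RU
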