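import Mathlib
import Cfsg.Prelude.Def_Characters
import Cfsg.Prelude.Def_Solvable
import Cfsg.Prelude.Def_Transfer
import Cfsg.Agent.Lib.Helper24.RU.Defs
import Cfsg.Agent.Lib.Helper11.Clifford
import Cfsg.Agent.Lib.Helper24.RU.N04
import Cfsg.Agent.Lib.Helper24.S3282CT45
import Cfsg.Agent.Lib.Helper2.Expansion

/-!
# S4751 farm, leaf N05 (architect helper24)

Keep the name, namespace and statement of `deg_eq` exactly; replace only the `sorry`
(auxiliary lemmas with fresh names may be added above it in this file).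
-/

set_option autoImplicit false

namespace Cfsg.Agent.Lib.Helper24.RU

open scoped ComplexConjugate

variable {G : Type*} [Group G] [Fintype G] {p : ℕ} [Fact p.Prime] {χ : G → ℂ}

namespace Helper13

open Classical in
/-- `χ|_A = ρ_A - 1_A`: the value of `χ` at `a ∈ A` is `|A| - 1` for `a = 1` and `-1` otherwise
(expansion of `χ|_A` with the multiplicities of N04, and `∑_ψ ψ a = |A| [a = 1]`). -/
theorem restrict_apply (h : Hyp p χ) {A : Subgroup G} (hA : ANP p A) (a : A) :
    χ a = (if a = 1 then (Nat.card A : ℂ) else 0) - 1 := by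
  have : Fintype A := Fintype.ofFinite A
  have : Fintype (Cfsg.IrrCharacter A) := Fintype.ofFinite _
  have hcl : Cfsg.IsClassFunction A (fun a : A => χ a) := by
    intro g x
    have hxg : x * g = g * x := Subtype.ext (hA.comm x x.2 g g.2)
    have : x * g * x⁻¹ = g := by rw [hxg, mul_inv_cancel_right]
    simp only [this]
  have hexp := congrFun (Cfsg.Agent.Lib.Helper2.classFunction_expansion (fun a : A => χ a) hcl) a
  simp only [Finset.sum_apply, Pi.smul_apply, smul_eq_mul] at hexp
  let triv : Cfsg.IrrCharacter A :=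
    ⟨fun _ => (1 : ℂ), Cfsg.Agent.Lib.Helper24.S3282CT45.isIrr_one A⟩
  have hterm : ∀ ψ : Cfsg.IrrCharacter A,
      Cfsg.classInner (fun a : A => χ a) (ψ : A → ℂ) * (ψ : A → ℂ) a =
        (ψ : A → ℂ) a - (if ψ = triv then (1 : ℂ) else 0) := by
    intro ψ
    by_cases hψ : ψ = triv
    · have h1 : (ψ : A → ℂ) = (fun _ => (1 : ℂ)) := by rw [hψ]
      rw [(mult_eq h hA ψ).1 h1, if_pos hψ, zero_mul, h1, sub_self]
    · have h1 : (ψ : A → ℂ) ≠ (fun _ => (1 : ℂ)) := fun e => hψ (Subtype.ext e)
      rw [(mult_eq h hA ψ).2 h1, if_neg hψ, one_mul, sub_zero]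
  rw [hexp, Finset.sum_congr rfl (fun ψ _ => hterm ψ), Finset.sum_sub_distrib,
    Cfsg.Agent.Lib.Helper24.S3282CT45.sum_irr_apply hA.comm a,
    Finset.sum_ite_eq' Finset.univ triv, if_pos (Finset.mem_univ _)]

end Helper13

/-- [N05] the degree: `χ 1 = |A| - 1` (expand `χ|_A` by N04 and evaluate at `1`). -/
theorem deg_eq (h : Hyp p χ) {A : Subgroup G} (hA : ANP p A) :
    χ 1 = (Nat.card A : ℂ) - 1 := by
  have := Helper13.restrict_apply h hA (1 : A)
  rwa [if_pos rfl, Subgroup.coe_one] at this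

end Cfsg.Agent.Lib.Helper24.RU
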