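import Mathlib
import Cfsg.Prelude.Def_Characters
import Cfsg.Prelude.Def_Solvable
import Cfsg.Prelude.Def_Transfer
import Cfsg.Agent.Lib.Helper24.RU.Defs
import Cfsg.Agent.Lib.Helper11.Clifford
import Cfsg.Agent.Lib.Helper24.RU.N04

/-!
# S4751 farm, leaf N07 (architect helper24)

Keep the name, namespace and statement of `trans_lin` exactly; replace only the `sorry`
(auxiliary lemmas with fresh names may be added above it in this file).
-/

set_option autoImplicit false

namespace Cfsg.Agent.Lib.Helper24.RU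

open scoped ComplexConjugate

variable {G : Type*} [Group G] [Fintype G] {p : ℕ} [Fact p.Prime] {χ : G → ℂ}

/-- [N07 aux] A character of degree one is irreducible. -/
theorem isIrrCharacter_of_isCharacter_of_apply_one_h11 {K : Type*} [Group K] {θ : K → ℂ}
    (hθ : Cfsg.IsCharacter K θ) (h1 : θ 1 = 1) : Cfsg.IsIrrCharacter K θ := by
  obtain ⟨n, ρ, rfl⟩ := hθ
  have hfin : Module.finrank ℂ (Fin n → ℂ) = 1 := by
    rw [Representation.char_one] at h1
    exact_mod_cast h1
  exact ⟨n, ρ, Cfsg.Agent.Lib.Helper2.isIrreducible_of_finrank_eq_one ρ hfin, rfl⟩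

/-- [N07] `G` is transitive on the nonprincipal linear characters of `A` (N04 + `Helper11.clifford_conj`). -/
theorem trans_lin (h : Hyp p χ) {A : Subgroup G} (hA : ANP p A) :
    ∀ lam mu : ↥A → ℂ, Cfsg.IsCharacter ↥A lam → lam 1 = 1 → lam ≠ (fun _ => (1 : ℂ)) →
      Cfsg.IsCharacter ↥A mu → mu 1 = 1 → mu ≠ (fun _ => (1 : ℂ)) →
      ∃ g : G, ∀ (x : G) (hx : x ∈ A) (hgx : g * x * g⁻¹ ∈ A),
        mu ⟨x, hx⟩ = lam ⟨g * x * g⁻¹, hgx⟩ := by
  classical
  intro lam mu hlam hlam1 hlamne hmu hmu1 hmune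
  have : Fintype A := Fintype.ofFinite A
  have : A.Normal := hA.normal
  have hlamI : Cfsg.IsIrrCharacter A lam :=
    isIrrCharacter_of_isCharacter_of_apply_one_h11 hlam hlam1
  have hmuI : Cfsg.IsIrrCharacter A mu :=
    isIrrCharacter_of_isCharacter_of_apply_one_h11 hmu hmu1
  have h1 : Cfsg.classInner (fun a : A => χ a) lam ≠ 0 := by
    have := (mult_eq h hA (⟨lam, hlamI⟩ : Cfsg.IrrCharacter A)).2 hlamne
    simp only at this
    rw [this]
    exact one_ne_zero
  have h2 : Cfsg.classInner (fun a : A => χ a) mu ≠ 0 := by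
    have := (mult_eq h hA (⟨mu, hmuI⟩ : Cfsg.IrrCharacter A)).2 hmune
    simp only at this
    rw [this]
    exact one_ne_zero
  obtain ⟨g, hg⟩ := Cfsg.Agent.Lib.Helper11.clifford_conj A h.irr hlamI hmuI h1 h2
  refine ⟨g, ?_⟩
  intro x hx hgx
  rw [hg]
  rfl

end Cfsg.Agent.Lib.Helper24.RU
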