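import Mathlib
import Cfsg.Prelude.Def_Characters
import Cfsg.Prelude.Def_Solvable
import Cfsg.Prelude.Def_Transfer
import Cfsg.Agent.Lib.Helper24.RU.Defs
import Cfsg.Agent.Lib.Helper11.Clifford
import Cfsg.Agent.Lib.Helper24.RU.N04
import Cfsg.Agent.Lib.Helper2.Induction
import Cfsg.Agent.Lib.Helper2.Linear
import Cfsg.Agent.Lib.Helper2.Expansion
import Cfsg.Agent.Lib.Helper2.Orthogonality

/-!
# S4751 farm, leaf N08 (architect helper24)

Keep the name, namespace and statement of `sum_sq_overgroup` exactly; replace only the `sorry`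
(auxiliary lemmas with fresh names may be added above it in this file).
-/

set_option autoImplicit false

namespace Cfsg.Agent.Lib.Helper24.RU

open scoped ComplexConjugate

namespace Helper3

open Cfsg.Agent.Lib.Helper2

/-- Abstract form: a character `Φ` of a finite commutative group `B` all of whose multiplicities are
`≤ 1` satisfies `∑_B |Φ|² = |B| Φ(1)`. -/
theorem sum_normSq_of_mult_le_one {B : Type*} [Group B] [Fintype B]
    (hB : ∀ a b : B, a * b = b * a) {Φ : B → ℂ} (hΦ : Cfsg.IsCharacter B Φ)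
    (hle : ∀ ν : Cfsg.IrrCharacter B, ∀ n : ℕ, Cfsg.classInner Φ (ν : B → ℂ) = (n : ℂ) → n ≤ 1) :
    ∑ b : B, Φ b * conj (Φ b) = (Nat.card B : ℂ) * Φ 1 := by
  classical
  letI : Fintype (Cfsg.IrrCharacter B) := Fintype.ofFinite _
  have hnat : ∀ ν : Cfsg.IrrCharacter B, ∃ n : ℕ, Cfsg.classInner Φ (ν : B → ℂ) = (n : ℂ) :=
    fun ν => classInner_isCharacter_nat hΦ (IsIrrCharacter.isCharacter ν.2)
  choose n hn using hnat
  have hn1 : ∀ ν, n ν ≤ 1 := fun ν => hle ν (n ν) (hn ν)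
  have hsq : ∀ ν, ((n ν : ℂ)) * conj ((n ν : ℂ)) = (n ν : ℂ) := by
    intro ν
    have h := hn1 ν
    rw [Complex.conj_natCast]
    interval_cases (n ν) <;> simp
  have hexp := classFunction_expansion Φ (IsCharacter.isClassFunction hΦ)
  -- ⟨Φ, Φ⟩ = ∑ n_ν
  have hinner : Cfsg.classInner Φ Φ = ∑ ν : Cfsg.IrrCharacter B, (n ν : ℂ) := by
    have e1 : Cfsg.classInner (∑ ν : Cfsg.IrrCharacter B,
        Cfsg.classInner Φ (ν : B → ℂ) • (ν : B → ℂ)) Φ = Cfsg.classInner Φ Φ := by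
      rw [← hexp]
    rw [← e1, classInner_sum_left]
    apply Finset.sum_congr rfl
    intro ν _
    rw [classInner_smul_left, ← classInner_conj_symm Φ (ν : B → ℂ), hn ν]
    exact hsq ν
  -- Φ 1 = ∑ n_ν
  have hone : Φ 1 = ∑ ν : Cfsg.IrrCharacter B, (n ν : ℂ) := by
    rw [congrFun hexp 1, Finset.sum_apply]
    apply Finset.sum_congr rfl
    intro ν _
    rw [Pi.smul_apply, smul_eq_mul, hn ν, IsIrrCharacter.apply_one_of_comm hB ν.2, mul_one]
  have hdef := classInner_def Φ Φ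
  rw [hinner, ← hone] at hdef
  have hc : (Nat.card B : ℂ) ≠ 0 := card_ne_zero_complex
  rw [hdef, ← mul_assoc, mul_inv_cancel₀ hc, one_mul]

end Helper3

variable {G : Type*} [Group G] [Fintype G] {p : ℕ} [Fact p.Prime] {χ : G → ℂ}

/-- [N08] for an abelian subgroup `B ≥ A` (not necessarily normal), `∑_B |χ|² = |B| χ(1)`: `χ|_B = ∑ m_ν ν`, and `m_ν ≤ ⟨χ|_A, ν|_A⟩ ≤ 1` by N04, so `∑ m_ν² = ∑ m_ν = χ 1`. -/
theorem sum_sq_overgroup (h : Hyp p χ) {A : Subgroup G} (hA : ANP p A) (B : Subgroup G)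
    (hAB : A ≤ B) (hB : ∀ x ∈ B, ∀ y ∈ B, x * y = y * x) [Fintype B] :
    ∑ b : B, χ b * conj (χ b) = (Nat.card B : ℂ) * χ 1 := by
  classical
  letI : Fintype A := Fintype.ofFinite A
  letI : Fintype (Cfsg.IrrCharacter B) := Fintype.ofFinite _
  have hBc : ∀ a b : B, a * b = b * a := fun a b => Subtype.ext (hB a a.2 b b.2)
  have hχc : Cfsg.IsCharacter G χ := Cfsg.Agent.Lib.Helper2.IsIrrCharacter.isCharacter h.irr
  have hΦ : Cfsg.IsCharacter B (fun b : B => χ b) :=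
    Cfsg.Agent.Lib.Helper2.IsCharacter.restrict hχc B
  have key := Helper3.sum_normSq_of_mult_le_one hBc hΦ ?_
  · simpa using key
  -- the multiplicities are at most one
  intro ν₀ n₀ hn₀
  -- ν₀ is linear
  have hν1 : (ν₀ : B → ℂ) 1 = 1 :=
    Cfsg.Agent.Lib.Helper2.IsIrrCharacter.apply_one_of_comm hBc ν₀.2
  obtain ⟨φ, hφ⟩ :=
    Cfsg.Agent.Lib.Helper2.exists_monoidHom_of_isIrrCharacter_of_apply_one ν₀.2 hν1
  -- its restriction to A is an irreducible character of A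
  let ι : A →* B := Subgroup.inclusion hAB
  have hψ₀ : Cfsg.IsIrrCharacter A (fun a : A => ((φ.comp ι) a : ℂ)) :=
    Cfsg.Agent.Lib.Helper2.isIrrCharacter_of_monoidHom (φ.comp ι)
  let ψ₀ : Cfsg.IrrCharacter A := ⟨fun a : A => ((φ.comp ι) a : ℂ), hψ₀⟩
  have hψ₀eq : ∀ a : A, (ψ₀ : A → ℂ) a = (ν₀ : B → ℂ) (ι a) := by
    intro a
    show ((φ.comp ι) a : ℂ) = (ν₀ : B → ℂ) (ι a)
    rw [hφ]; rfl
  -- N04: the multiplicity of ψ₀ in χ|_A is 0 or 1
  have hN04 := mult_eq h hA ψ₀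
  have h01 : Cfsg.classInner (fun a : A => χ a) (ψ₀ : A → ℂ) = 0 ∨
      Cfsg.classInner (fun a : A => χ a) (ψ₀ : A → ℂ) = 1 := by
    by_cases hp : (ψ₀ : A → ℂ) = (fun _ => (1 : ℂ))
    · exact Or.inl (hN04.1 hp)
    · exact Or.inr (hN04.2 hp)
  -- multiplicities of χ|_B
  have hnat : ∀ ν : Cfsg.IrrCharacter B, ∃ n : ℕ,
      Cfsg.classInner (fun b : B => χ b) (ν : B → ℂ) = (n : ℂ) :=
    fun ν => Cfsg.Agent.Lib.Helper2.classInner_isCharacter_nat hΦ
      (Cfsg.Agent.Lib.Helper2.IsIrrCharacter.isCharacter ν.2)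
  choose n hn using hnat
  -- restrictions of the ν to A and their inner products with ψ₀
  have hνA : ∀ ν : Cfsg.IrrCharacter B, Cfsg.IsIrrCharacter A (fun a : A => (ν : B → ℂ) (ι a)) := by
    intro ν
    have h1 : (ν : B → ℂ) 1 = 1 := Cfsg.Agent.Lib.Helper2.IsIrrCharacter.apply_one_of_comm hBc ν.2
    obtain ⟨φ', hφ'⟩ :=
      Cfsg.Agent.Lib.Helper2.exists_monoidHom_of_isIrrCharacter_of_apply_one ν.2 h1
    have := Cfsg.Agent.Lib.Helper2.isIrrCharacter_of_monoidHom (φ'.comp ι)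
    convert this using 2
    rw [hφ']; rfl
  have hc : ∀ ν : Cfsg.IrrCharacter B, ∃ c : ℕ,
      Cfsg.classInner (fun a : A => (ν : B → ℂ) (ι a)) (ψ₀ : A → ℂ) = (c : ℂ) := by
    intro ν
    exact Cfsg.Agent.Lib.Helper2.classInner_isCharacter_nat
      (Cfsg.Agent.Lib.Helper2.IsIrrCharacter.isCharacter (hνA ν))
      (Cfsg.Agent.Lib.Helper2.IsIrrCharacter.isCharacter ψ₀.2)
  choose c hcν using hc
  have hc0 : c ν₀ = 1 := by
    have h1 : Cfsg.classInner (fun a : A => (ν₀ : B → ℂ) (ι a)) (ψ₀ : A → ℂ) = 1 := by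
      have : (fun a : A => (ν₀ : B → ℂ) (ι a)) = (ψ₀ : A → ℂ) := by
        funext a; exact (hψ₀eq a).symm
      rw [this]
      exact Cfsg.Agent.Lib.Helper2.classInner_irrCharacter_self ψ₀
    rw [hcν ν₀] at h1
    exact_mod_cast h1
  -- expansion of χ|_B, restricted to A
  have hexp := Cfsg.Agent.Lib.Helper2.classFunction_expansion (fun b : B => χ b)
    (Cfsg.Agent.Lib.Helper2.IsCharacter.isClassFunction hΦ)
  have hχA : (fun a : A => χ a) =
      ∑ ν : Cfsg.IrrCharacter B, (n ν : ℂ) • (fun a : A => (ν : B → ℂ) (ι a)) := by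
    funext a
    have := congrFun hexp (ι a)
    simp only [Finset.sum_apply, Pi.smul_apply, smul_eq_mul] at this ⊢
    rw [show χ (a : G) = χ ((ι a : B) : G) from rfl, this]
    apply Finset.sum_congr rfl
    intro ν _
    rw [hn ν]
  have hsum : Cfsg.classInner (fun a : A => χ a) (ψ₀ : A → ℂ) =
      ((∑ ν : Cfsg.IrrCharacter B, n ν * c ν : ℕ) : ℂ) := by
    rw [hχA, Cfsg.Agent.Lib.Helper2.classInner_sum_left]
    push_cast
    apply Finset.sum_congr rfl
    intro ν _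
    rw [Cfsg.Agent.Lib.Helper2.classInner_smul_left, hcν ν]
  have hle1 : (∑ ν : Cfsg.IrrCharacter B, n ν * c ν) ≤ 1 := by
    rcases h01 with h0 | h1
    · rw [hsum] at h0
      have : (∑ ν : Cfsg.IrrCharacter B, n ν * c ν) = 0 := by exact_mod_cast h0
      omega
    · rw [hsum] at h1
      have : (∑ ν : Cfsg.IrrCharacter B, n ν * c ν) = 1 := by exact_mod_cast h1
      omega
  have hterm : n ν₀ * c ν₀ ≤ ∑ ν : Cfsg.IrrCharacter B, n ν * c ν :=
    Finset.single_le_sum (f := fun ν => n ν * c ν) (fun _ _ => Nat.zero_le _) (Finset.mem_univ ν₀)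
  rw [hc0, mul_one] at hterm
  have hn₀' : (n ν₀ : ℂ) = (n₀ : ℂ) := by rw [← hn ν₀, hn₀]
  have : n ν₀ = n₀ := by exact_mod_cast hn₀'
  omega

end Cfsg.Agent.Lib.Helper24.RU
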