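import Mathlib
import Cfsg.Prelude.Def_Characters
import Cfsg.Prelude.Def_Solvable
import Cfsg.Prelude.Def_Transfer
import Cfsg.Agent.Lib.Helper24.RU.Defs
import Cfsg.Agent.Lib.Helper11.Clifford
import Cfsg.Agent.Lib.Helper24.RU.N01
import Cfsg.Agent.Lib.Helper24.RU.N05
import Cfsg.Agent.Lib.Helper24.RU.N08

/-!
# S4751 farm, leaf N12 (architect helper24)

Keep the name, namespace and statement of `pElement_mem` exactly; replace only the `sorry`
(auxiliary lemmas with fresh names may be added above it in this file).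
-/

set_option autoImplicit false

namespace Cfsg.Agent.Lib.Helper24.RU

open scoped ComplexConjugate

variable {G : Type*} [Group G] [Finite G] {p : ℕ} [Fact p.Prime] {χ : G → ℂ}

namespace Helper20

/-- the join of an abelian subgroup with a cyclic group centralizing it is abelian -/
theorem sup_zpowers_comm {G : Type*} [Group G] {A : Subgroup G}
    (hA : ∀ x ∈ A, ∀ y ∈ A, x * y = y * x) {y : G}
    (hy : y ∈ Subgroup.centralizer (A : Set G)) :
    ∀ x ∈ A ⊔ Subgroup.zpowers y, ∀ z ∈ A ⊔ Subgroup.zpowers y, x * z = z * x := by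
  have hy' : ∀ a ∈ A, a * y = y * a := fun a ha => Subgroup.mem_centralizer_iff.mp hy a ha
  -- every element of the join commutes with `y`
  have h1 : A ⊔ Subgroup.zpowers y ≤ Subgroup.centralizer ({y} : Set G) := by
    refine sup_le ?_ ?_
    · intro a ha
      rw [Subgroup.mem_centralizer_iff]
      intro g hg
      rw [Set.mem_singleton_iff] at hg
      subst hg
      exact (hy' a ha).symm
    · rw [Subgroup.zpowers_le]
      rw [Subgroup.mem_centralizer_iff]
      intro g hg
      rw [Set.mem_singleton_iff] at hg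
      subst hg
      rfl
  -- every element of the join commutes with every element of `A`
  have h2 : ∀ a ∈ A, A ⊔ Subgroup.zpowers y ≤ Subgroup.centralizer ({a} : Set G) := by
    intro a ha
    refine sup_le ?_ ?_
    · intro b hb
      rw [Subgroup.mem_centralizer_iff]
      intro g hg
      rw [Set.mem_singleton_iff] at hg
      subst hg
      exact hA g ha b hb
    · rw [Subgroup.zpowers_le]
      rw [Subgroup.mem_centralizer_iff]
      intro g hg
      rw [Set.mem_singleton_iff] at hg
      subst hg
      exact hy' g ha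
  intro x hx
  have h3 : A ⊔ Subgroup.zpowers y ≤ Subgroup.centralizer ({x} : Set G) := by
    refine sup_le ?_ ?_
    · intro a ha
      rw [Subgroup.mem_centralizer_iff]
      intro g hg
      rw [Set.mem_singleton_iff] at hg
      subst hg
      have := Subgroup.mem_centralizer_iff.mp (h2 a ha hx) a (Set.mem_singleton a)
      exact this.symm
    · rw [Subgroup.zpowers_le]
      rw [Subgroup.mem_centralizer_iff]
      intro g hg
      rw [Set.mem_singleton_iff] at hg
      subst hg
      have := Subgroup.mem_centralizer_iff.mp (h1 hx) y (Set.mem_singleton y)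
      exact this.symm
  intro z hz
  have := Subgroup.mem_centralizer_iff.mp (h3 hz) x (Set.mem_singleton x)
  exact this

end Helper20

/-- [N12] `p`-elements of `C_G(A)` lie in `A`: `B = A ⊔ zpowers y` is an abelian `p`-group, so `|B| χ 1 = χ(1)² + |B| - 1` by N01, N08, whence `|B| = χ 1 + 1 = |A|`. -/
theorem pElement_mem (h : Hyp p χ) {A : Subgroup G} (hA : ANP p A) {y : G}
    (hy : y ∈ Subgroup.centralizer (A : Set G)) (hyp : ∃ k : ℕ, orderOf y = p ^ k) : y ∈ A := by
  classical
  have _instG : Fintype G := Fintype.ofFinite G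
  have hAB : A ≤ A ⊔ Subgroup.zpowers y := le_sup_left
  have hyB : y ∈ A ⊔ Subgroup.zpowers y :=
    (le_sup_right : Subgroup.zpowers y ≤ A ⊔ Subgroup.zpowers y) (Subgroup.mem_zpowers y)
  have hBcomm := Helper20.sup_zpowers_comm hA.comm hy
  have hZp : IsPGroup p (Subgroup.zpowers y) := by
    obtain ⟨k, hk⟩ := hyp
    exact IsPGroup.of_card (n := k) (by rw [Nat.card_zpowers, hk])
  have _instN := hA.normal
  have hBp : IsPGroup p ↥(A ⊔ Subgroup.zpowers y) :=
    IsPGroup.to_sup_of_normal_left hA.pgroup hZp
  have _instB : Fintype ↥(A ⊔ Subgroup.zpowers y) := Fintype.ofFinite _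
  have e1 := sum_normSq h (A ⊔ Subgroup.zpowers y) hBp
  have e2 := sum_sq_overgroup h hA (A ⊔ Subgroup.zpowers y) hAB hBcomm
  have e3 := deg_eq h hA
  have hnl := h.nl
  rw [e1] at e2
  have e4 : ((Nat.card ↥(A ⊔ Subgroup.zpowers y) : ℂ) - χ 1 - 1) * (χ 1 - 1) = 0 := by
    linear_combination (-1 : ℂ) * e2
  have e5 : (Nat.card ↥(A ⊔ Subgroup.zpowers y) : ℂ) = (Nat.card A : ℂ) := by
    rcases mul_eq_zero.mp e4 with h0 | h0
    · rw [e3] at h0
      linear_combination h0
    · exact absurd (sub_eq_zero.mp h0) hnl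
  have e6 : Nat.card ↥(A ⊔ Subgroup.zpowers y) = Nat.card A := by exact_mod_cast e5
  have e7 : A = A ⊔ Subgroup.zpowers y :=
    Subgroup.eq_of_le_of_card_ge hAB (le_of_eq e6)
  rw [e7]
  exact hyB

end Cfsg.Agent.Lib.Helper24.RU
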