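import Mathlib
import Cfsg.Prelude.Def_Characters
import Cfsg.Prelude.Def_Solvable
import Cfsg.Prelude.Def_Transfer
import Cfsg.Agent.Lib.Helper24.RU.Defs
import Cfsg.Agent.Lib.Helper11.Clifford
import Cfsg.Agent.Lib.Helper24.RU.N12
import Cfsg.Agent.Lib.Helper16.PCore

/-!
# S4751 farm, leaf N14 (architect helper24)

Keep the name, namespace and statement of `pCore_anp` exactly; replace only the `sorry`
(auxiliary lemmas with fresh names may be added above it in this file).
-/

set_option autoImplicit false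

namespace Cfsg.Agent.Lib.Helper24.RU

open scoped ComplexConjugate

variable {G : Type*} [Group G] [Finite G] {p : ℕ} [Fact p.Prime] {χ : G → ℂ}

namespace Helper22

/-- For a nontrivial normal `p`-subgroup `Q`, the subgroup `Z(Q) = Q ⊓ C_G(Q)` is ANP. -/
theorem anp_inf_centralizer {Q : Subgroup G} (hQn : Q.Normal) (hQp : IsPGroup p Q) (hQ : Q ≠ ⊥) :
    ANP p (Q ⊓ Subgroup.centralizer (Q : Set G)) := by
  have := hQn
  refine ⟨?_, ?_, ?_, ?_⟩
  · have : (Subgroup.centralizer (Q : Set G)).Normal := Subgroup.normal_centralizer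
    exact Subgroup.normal_inf_normal _ _
  · exact hQp.to_le inf_le_left
  · intro x hx y hy
    exact (hx.2 y hy.1).symm
  · have : Nontrivial Q := by
      rw [Subgroup.nontrivial_iff_ne_bot]
      exact hQ
    have : Nontrivial (Subgroup.center Q) := hQp.center_nontrivial
    obtain ⟨z, hz⟩ := exists_ne (1 : Subgroup.center Q)
    intro hbot
    apply hz
    have hmem : ((z : Q) : G) ∈ Q ⊓ Subgroup.centralizer (Q : Set G) := by
      refine ⟨(z : Q).2, ?_⟩
      intro q hq
      have h1 := (Subgroup.mem_center_iff.mp z.2) ⟨q, hq⟩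
      have h2 := congrArg (Subtype.val) h1
      simpa using h2
    rw [hbot, Subgroup.mem_bot] at hmem
    ext
    simpa using hmem

end Helper22

/-- [N14] `O_p(G)` is abelian, hence ANP: `Z(Q) = Q ⊓ C_G(Q)` is ANP, `Q ≤ C_G(Z(Q))` consists of `p`-elements, so `Q ≤ Z(Q)` by N12. -/
theorem pCore_anp (h : Hyp p χ) (hP : Cfsg.pCore p G ≠ ⊥) : ANP p (Cfsg.pCore p G) := by
  have hQn : (Cfsg.pCore p G).Normal := Cfsg.Agent.Lib.Helper16.pCore_normal
  have hQp : IsPGroup p (Cfsg.pCore p G) := Cfsg.Agent.Lib.Helper16.pCore_isPGroup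
  have hZ := Helper22.anp_inf_centralizer hQn hQp hP
  have hle : Cfsg.pCore p G ≤ Cfsg.pCore p G ⊓ Subgroup.centralizer (Cfsg.pCore p G : Set G) := by
    intro y hy
    apply pElement_mem h hZ
    · intro z hz
      exact (hz.2 y hy).symm
    · obtain ⟨k, hk⟩ := hQp ⟨y, hy⟩
      have h1 : y ^ p ^ k = 1 := by
        have := congrArg Subtype.val hk
        simpa using this
      obtain ⟨j, _, hj⟩ := (Nat.dvd_prime_pow (Fact.out : p.Prime)).mp (orderOf_dvd_of_pow_eq_one h1)
      exact ⟨j, hj⟩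
  have heq : Cfsg.pCore p G ⊓ Subgroup.centralizer (Cfsg.pCore p G : Set G) = Cfsg.pCore p G :=
    le_antisymm inf_le_left hle
  rw [heq] at hZ
  exact hZ

end Cfsg.Agent.Lib.Helper24.RU
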