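import Mathlib
import Cfsg.Prelude.Def_Characters
import Cfsg.Prelude.Def_Solvable
import Cfsg.Prelude.Def_Transfer
import Cfsg.Agent.Lib.Helper24.RU.Defs
import Cfsg.Agent.Lib.Helper11.Clifford
import Cfsg.Agent.Lib.Helper2.CharBasic

/-!
# S4751 farm, leaf N09 (architect helper24)

Keep the name, namespace and statement of `mem_center_of_normSq` exactly; replace only the `sorry`
(auxiliary lemmas with fresh names may be added above it in this file).
-/

set_option autoImplicit false

namespace Cfsg.Agent.Lib.Helper24.RU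

open scoped ComplexConjugate

variable {G : Type*} [Group G] [Fintype G] {p : ℕ} [Fact p.Prime] {χ : G → ℂ}

/-- [N09] `|χ y| = χ 1` forces `y` central (`χ` faithful irreducible; cf. `Helper2.norm_char_eq_finrank_iff`). -/
theorem mem_center_of_normSq (h : Hyp p χ) {y : G} (hy : χ y * conj (χ y) = χ 1 * χ 1) :
    y ∈ Subgroup.center G := by
  obtain ⟨n, ρ, hirr, hχ⟩ := h.irr
  have h1 : χ 1 = (n : ℂ) := by
    rw [← hχ]
    simp [Representation.character]
  have hnorm : ‖ρ.character y‖ = (Module.finrank ℂ (Fin n → ℂ) : ℝ) := by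
    rw [hχ, Module.finrank_fin_fun]
    have h2 := hy
    rw [Complex.mul_conj, h1] at h2
    have h3 : Complex.normSq (χ y) = (n : ℝ) * n := by exact_mod_cast h2
    rw [Complex.normSq_eq_norm_sq] at h3
    have h4 : ‖χ y‖ ^ 2 = (n : ℝ) ^ 2 := by rw [h3]; ring
    exact (sq_eq_sq₀ (norm_nonneg _) (Nat.cast_nonneg n)).1 h4
  obtain ⟨ω, hω⟩ := (Cfsg.Agent.Lib.Helper2.norm_char_eq_finrank_iff ρ y).mp hnorm
  rw [Subgroup.mem_center_iff]
  intro g
  have hcomm : ρ (y * g * y⁻¹ * g⁻¹) = LinearMap.id := by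
    have e1 : ρ y * ρ g = ρ g * ρ y := by
      rw [hω]
      ext v
      simp
    have : ρ (y * g * y⁻¹ * g⁻¹) = ρ y * ρ g * ρ y⁻¹ * ρ g⁻¹ := by
      rw [map_mul, map_mul, map_mul]
    rw [this, e1, mul_assoc (ρ g), ← map_mul, mul_inv_cancel, map_one, mul_one, ← map_mul,
      mul_inv_cancel, map_one]
    rfl
  have hval : χ (y * g * y⁻¹ * g⁻¹) = χ 1 := by
    rw [h1, ← hχ]
    simp [Representation.character, hcomm]
  have h5 := h.faith _ hval
  have h6 : y * g = g * y := by
    have := congrArg (fun x => x * g * y) h5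
    simpa [mul_assoc] using this
  exact h6.symm

end Cfsg.Agent.Lib.Helper24.RU
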