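import Mathlib
import Cfsg.Prelude.Def_Characters
import Cfsg.Prelude.Def_Solvable
import Cfsg.Prelude.Def_Transfer
import Cfsg.Agent.Lib.Helper24.RU.Defs
import Cfsg.Agent.Lib.Helper11.Clifford
import Cfsg.Agent.Lib.Helper2.CharBasic

/-!
# S4751 farm, leaf N10 (architect helper24)

Keep the name, namespace and statement of `normSq_le` exactly; replace only the `sorry`
(auxiliary lemmas with fresh names may be added above it in this file).
Proved in place by helper1.
-/

set_option autoImplicit false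

namespace Cfsg.Agent.Lib.Helper24.RU

open scoped ComplexConjugate

variable {G : Type*} [Group G] [Fintype G] {p : ℕ} [Fact p.Prime] {χ : G → ℂ}

/-- [N10] `|χ y|² ≤ χ(1)²`, in the form: `χ 1 * χ 1 - χ y * conj (χ y)` is a nonnegative real (cf. `Helper2.norm_char_le`). -/
theorem normSq_le (h : Hyp p χ) (y : G) :
    ∃ r : ℝ, 0 ≤ r ∧ χ 1 * χ 1 - χ y * conj (χ y) = (r : ℂ) := by
  obtain ⟨n, ρ, -, rfl⟩ := h.irr
  have hle := Cfsg.Agent.Lib.Helper2.norm_char_le ρ y
  have h1 : ρ.character 1 = (Module.finrank ℂ (Fin n → ℂ) : ℂ) := by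
    simp [Representation.char_one]
  refine ⟨(Module.finrank ℂ (Fin n → ℂ) : ℝ) ^ 2 - ‖ρ.character y‖ ^ 2, ?_, ?_⟩
  · have h0 : 0 ≤ ‖ρ.character y‖ := norm_nonneg _
    nlinarith
  · rw [h1, Complex.mul_conj, Complex.normSq_eq_norm_sq]
    push_cast
    ring

end Cfsg.Agent.Lib.Helper24.RU
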