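import Mathlib
import Cfsg.Prelude.Def_Characters
import Cfsg.Prelude.Def_Solvable
import Cfsg.Prelude.Def_Transfer
import Cfsg.Agent.Lib.Helper24.RU.Defs
import Cfsg.Agent.Lib.Helper11.Clifford
import Cfsg.Agent.Lib.Helper24.RU.N05
import Cfsg.Agent.Lib.Helper24.RU.N08
import Cfsg.Agent.Lib.Helper24.RU.N09
import Cfsg.Agent.Lib.Helper24.RU.N10
import Cfsg.Agent.Lib.Helper24.RU.N12

/-!
# S4751 farm, leaf N13 (architect helper24)

Keep the name, namespace and statement of `pRegular_central` exactly; replace only the `sorry`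
(auxiliary lemmas with fresh names may be added above it in this file).
-/

set_option autoImplicit false

namespace Cfsg.Agent.Lib.Helper24.RU

open scoped ComplexConjugate

variable {G : Type*} [Group G] [Finite G] {p : ℕ} [Fact p.Prime] {χ : G → ℂ}

namespace Helper10

open scoped Pointwise

/-- a root of unity has norm square one -/
theorem normSq_eq_one_of_root {z : ℂ} (hz : ∃ n : ℕ, 0 < n ∧ z ^ n = 1) : z * conj z = 1 := by
  obtain ⟨n, hn, h⟩ := hz
  have h1 : ‖z‖ = 1 := by
    have h2 : ‖z‖ ^ n = 1 := by rw [← norm_pow, h, norm_one]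
    exact (pow_eq_one_iff_of_nonneg (norm_nonneg z) hn.ne').1 h2
  rw [Complex.mul_conj, Complex.normSq_eq_norm_sq, h1]
  simp

/-- `|A ⊔ Z| = |A| * |Z|` for a normal subgroup `A` meeting `Z` trivially -/
theorem card_sup_of_inf_eq_bot {G : Type*} [Group G] (A Z : Subgroup G) [A.Normal]
    (h : A ⊓ Z = ⊥) : Nat.card (A ⊔ Z : Subgroup G) = Nat.card A * Nat.card Z := by
  have h1 : A.relIndex (A ⊔ Z) = Nat.card Z := by
    rw [Subgroup.relIndex_sup_left, ← Subgroup.inf_relIndex_right, h, Subgroup.relIndex_bot_left]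
  have h2 : Nat.card (A.subgroupOf (A ⊔ Z)) * (A.subgroupOf (A ⊔ Z)).index
      = Nat.card (A ⊔ Z : Subgroup G) := Subgroup.card_mul_index _
  have h3 : Nat.card (A.subgroupOf (A ⊔ Z)) = Nat.card A :=
    Nat.card_congr (Subgroup.subgroupOfEquivOfLe (le_sup_left : A ≤ A ⊔ Z)).toEquiv
  rw [← h2, h3, ← h1]
  rfl

/-- elements of `A ⊔ zpowers y` outside `zpowers y` are `p`-singular (`A` a normal `p`-group,
`y` a `p`-regular element centralizing `A`) -/
theorem dvd_orderOf_of_not_mem {G : Type*} [Group G] [Finite G] {p : ℕ} [Fact p.Prime]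
    {A : Subgroup G} [A.Normal] (hAp : IsPGroup p A) {y : G}
    (hy : y ∈ Subgroup.centralizer (A : Set G)) (hyp : ¬ p ∣ orderOf y) {b : G}
    (hb : b ∈ A ⊔ Subgroup.zpowers y) (hbZ : b ∉ Subgroup.zpowers y) : p ∣ orderOf b := by
  have hb' : b ∈ (A : Set G) * (Subgroup.zpowers y : Set G) := by
    rw [← Subgroup.normal_mul]; exact hb
  obtain ⟨a, ha, z, hz, rfl⟩ := Set.mem_mul.1 hb'
  have ha1 : a ≠ 1 := by
    rintro rfl
    rw [one_mul] at hbZ
    exact hbZ hz
  obtain ⟨k, rfl⟩ := Subgroup.mem_zpowers_iff.1 hz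
  have hcomm : Commute a (y ^ k) := by
    have : a * y = y * a := Subgroup.mem_centralizer_iff.1 hy a ha
    exact (Commute.zpow_right this k)
  -- `(a * y^k) ^ orderOf y = a ^ orderOf y`
  have hpow : (a * y ^ k) ^ orderOf y = a ^ orderOf y := by
    rw [hcomm.mul_pow, ← zpow_natCast (y ^ k), ← zpow_mul, mul_comm, zpow_mul, zpow_natCast,
      pow_orderOf_eq_one, one_zpow, mul_one]
  -- `a ^ orderOf y ≠ 1`
  obtain ⟨j, hj⟩ := (IsPGroup.iff_orderOf.1 hAp) ⟨a, ha⟩
  have hoa : orderOf a = p ^ j := by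
    rw [← hj]; exact Subgroup.orderOf_coe ⟨a, ha⟩
  have hj0 : j ≠ 0 := by
    rintro rfl
    rw [pow_zero, orderOf_eq_one_iff] at hoa
    exact ha1 hoa
  have hne : a ^ orderOf y ≠ 1 := by
    intro h1
    have hdvd : p ^ j ∣ orderOf y := by rw [← hoa]; exact orderOf_dvd_of_pow_eq_one h1
    exact hyp ((dvd_pow_self p hj0).trans hdvd)
  -- order of `a ^ orderOf y` is a nontrivial power of `p` dividing the order of `b`
  have hd1 : orderOf (a ^ orderOf y) ∣ orderOf (a * y ^ k) := by
    rw [← hpow]; exact orderOf_pow_dvd _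
  have hd2 : orderOf (a ^ orderOf y) ∣ p ^ j := by
    rw [← hoa]; exact orderOf_pow_dvd _
  obtain ⟨i, -, hi⟩ := (Nat.dvd_prime_pow (Fact.out : p.Prime)).1 hd2
  have hi0 : i ≠ 0 := by
    rintro rfl
    rw [pow_zero, orderOf_eq_one_iff] at hi
    exact hne hi
  exact ((dvd_pow_self p hi0).trans (by rw [← hi])).trans hd1

end Helper10

/-- [N13] `p`-regular elements of `C_G(A)` are central: in `B = A ⊔ zpowers y` the elements outside `zpowers y` are `p`-singular; N08 + N05 + N10 force `|χ z| = χ 1` on `zpowers y`; N09. -/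
theorem pRegular_central (h : Hyp p χ) {A : Subgroup G} (hA : ANP p A) {y : G}
    (hy : y ∈ Subgroup.centralizer (A : Set G)) (hyp : ¬ p ∣ orderOf y) :
    y ∈ Subgroup.center G := by
  classical
  have _instG : Fintype G := Fintype.ofFinite G
  have _instN := hA.normal
  have hAB : A ≤ A ⊔ Subgroup.zpowers y := le_sup_left
  have hZB : Subgroup.zpowers y ≤ A ⊔ Subgroup.zpowers y := le_sup_right
  have hBcomm := Helper20.sup_zpowers_comm hA.comm hy
  have _instB : Fintype ↥(A ⊔ Subgroup.zpowers y) := Fintype.ofFinite _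
  have e2 := sum_sq_overgroup h hA (A ⊔ Subgroup.zpowers y) hAB hBcomm
  have e3 := deg_eq h hA
  -- cardinalities
  have hdisj : A ⊓ Subgroup.zpowers y = ⊥ := by
    obtain ⟨k, hk⟩ := IsPGroup.exists_card_eq hA.pgroup
    apply Disjoint.eq_bot
    apply Subgroup.disjoint_of_coprime_natCard
    rw [hk, Nat.card_zpowers]
    exact Nat.Coprime.pow_left k ((Nat.Prime.coprime_iff_not_dvd Fact.out).2 hyp)
  have hcardB : Nat.card ↥(A ⊔ Subgroup.zpowers y) = Nat.card A * orderOf y := by
    rw [Helper10.card_sup_of_inf_eq_bot A (Subgroup.zpowers y) hdisj, Nat.card_zpowers]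
  -- split the sum over `B`
  set f : G → ℂ := fun g => χ g * conj (χ g) with hf
  have hsing : ∀ b : ↥(A ⊔ Subgroup.zpowers y), (b : G) ∉ Subgroup.zpowers y → f b = 1 := by
    intro b hb
    exact Helper10.normSq_eq_one_of_root
      (h.root b (Helper10.dvd_orderOf_of_not_mem hA.pgroup hy hyp b.2 hb))
  have hsplit : ∑ b : ↥(A ⊔ Subgroup.zpowers y), f b
      = ∑ b : ↥(A ⊔ Subgroup.zpowers y), (if (b : G) ∈ Subgroup.zpowers y then f b - 1 else 0)
        + (Nat.card ↥(A ⊔ Subgroup.zpowers y) : ℂ) := by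
    have : ∀ b : ↥(A ⊔ Subgroup.zpowers y),
        f b = (if (b : G) ∈ Subgroup.zpowers y then f b - 1 else 0) + 1 := by
      intro b
      by_cases hb : (b : G) ∈ Subgroup.zpowers y
      · rw [if_pos hb]; ring
      · rw [if_neg hb, hsing b hb]; ring
    rw [Finset.sum_congr rfl (fun b _ => this b), Finset.sum_add_distrib]
    simp [Nat.card_eq_fintype_card]
  -- the sum over `zpowers y`, as a sum over the subtype
  have _instZ : Fintype ↥(Subgroup.zpowers y) := Fintype.ofFinite _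
  have hZsum : ∑ b : ↥(A ⊔ Subgroup.zpowers y),
      (if (b : G) ∈ Subgroup.zpowers y then f b - 1 else 0)
      = ∑ z : ↥(Subgroup.zpowers y), (f z - 1) := by
    rw [← Finset.sum_filter]
    refine (Finset.sum_bij (fun (z : ↥(Subgroup.zpowers y)) _ =>
      (⟨(z : G), hZB z.2⟩ : ↥(A ⊔ Subgroup.zpowers y))) ?_ ?_ ?_ ?_).symm
    · intro z _
      simp only [Finset.mem_filter, Finset.mem_univ, true_and]
      exact z.2
    · intro z1 _ z2 _ h12
      exact Subtype.ext (congrArg (fun b : ↥(A ⊔ Subgroup.zpowers y) => (b : G)) h12)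
    · intro b hb
      simp only [Finset.mem_filter, Finset.mem_univ, true_and] at hb
      exact ⟨⟨(b : G), hb⟩, Finset.mem_univ _, rfl⟩
    · intro z _
      rfl
  rw [show (∑ b : ↥(A ⊔ Subgroup.zpowers y), χ b * conj (χ b))
      = ∑ b : ↥(A ⊔ Subgroup.zpowers y), f b from rfl, hsplit, hZsum, hcardB] at e2
  -- hence `∑_Z (χ1² - f z) = 0`
  have hcardZ : (Fintype.card ↥(Subgroup.zpowers y) : ℂ) = (orderOf y : ℂ) := by
    rw [← Nat.card_eq_fintype_card, Nat.card_zpowers]
  have hsum0 : ∑ z : ↥(Subgroup.zpowers y), (χ 1 * χ 1 - f z) = 0 := by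
    rw [Finset.sum_sub_distrib]
    have e4 : ∑ z : ↥(Subgroup.zpowers y), f z
        = ∑ z : ↥(Subgroup.zpowers y), (f z - 1) + (orderOf y : ℂ) := by
      rw [Finset.sum_sub_distrib]
      simp [hcardZ]
    rw [e4]
    simp only [Finset.sum_const, Finset.card_univ, nsmul_eq_mul, hcardZ]
    push_cast at e2
    rw [e3] at e2 ⊢
    linear_combination (-1 : ℂ) * e2
  -- each term is a nonnegative real
  choose r hr0 hr using fun z : ↥(Subgroup.zpowers y) => normSq_le h (z : G)
  have hsumr : ∑ z : ↥(Subgroup.zpowers y), r z = 0 := by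
    have : ((∑ z : ↥(Subgroup.zpowers y), r z : ℝ) : ℂ) = 0 := by
      rw [Complex.ofReal_sum, ← hsum0]
      exact Finset.sum_congr rfl (fun z _ => (hr z).symm)
    exact_mod_cast this
  have hall := (Finset.sum_eq_zero_iff_of_nonneg (fun z _ => hr0 z)).1 hsumr
  have hy0 : r ⟨y, Subgroup.mem_zpowers y⟩ = 0 := hall _ (Finset.mem_univ _)
  have hyy := hr ⟨y, Subgroup.mem_zpowers y⟩
  rw [hy0, Complex.ofReal_zero, sub_eq_zero] at hyy
  exact mem_center_of_normSq h hyy.symm

end Cfsg.Agent.Lib.Helper24.RU
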