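import Mathlib
import Cfsg.Prelude.Def_Characters
import Cfsg.Prelude.Def_Solvable
import Cfsg.Prelude.Def_Transfer
import Cfsg.Agent.Lib.Helper24.RU.Defs
import Cfsg.Agent.Lib.Helper11.Clifford
import Cfsg.Agent.Lib.Helper24.RU.N12
import Cfsg.Agent.Lib.Helper24.RU.N13

/-!
# S4751 farm, leaf N15 (architect helper24)

Keep the name, namespace and statement of `centralizer_eq` exactly; replace only the `sorry`
(auxiliary lemmas with fresh names may be added above it in this file).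
-/

set_option autoImplicit false

namespace Cfsg.Agent.Lib.Helper24.RU

open scoped ComplexConjugate

variable {G : Type*} [Group G] [Finite G] {p : ℕ} [Fact p.Prime] {χ : G → ℂ}

/-- [N15] `C_G(A) = A ⊔ Z(G)` (split `y ∈ C_G(A)` into its `p`-part and `p'`-part, both powers of `y`; N12, N13). -/
theorem centralizer_eq (h : Hyp p χ) {A : Subgroup G} (hA : ANP p A) :
    Subgroup.centralizer (A : Set G) = A ⊔ Subgroup.center G := by
  have hp : p.Prime := Fact.out
  apply le_antisymm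
  · intro y hy
    have hn : orderOf y ≠ 0 := (orderOf_pos y).ne'
    obtain ⟨k, m, hm, hnm⟩ := Nat.exists_eq_pow_mul_and_not_dvd hn p hp.ne_one
    have hcop : Nat.Coprime (p ^ k) m :=
      Nat.Coprime.pow_left k ((Nat.Prime.coprime_iff_not_dvd hp).2 hm)
    obtain ⟨u, v, huv⟩ := Nat.isCoprime_iff_coprime.mpr hcop
    have hyst : y = y ^ (u * ((p ^ k : ℕ) : ℤ)) * y ^ (v * (m : ℤ)) := by
      rw [← zpow_add, huv, zpow_one]
    have hsC : y ^ (u * ((p ^ k : ℕ) : ℤ)) ∈ Subgroup.centralizer (A : Set G) :=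
      Subgroup.zpow_mem _ hy _
    have htC : y ^ (v * (m : ℤ)) ∈ Subgroup.centralizer (A : Set G) :=
      Subgroup.zpow_mem _ hy _
    have hsm : (y ^ (u * ((p ^ k : ℕ) : ℤ))) ^ m = 1 := by
      rw [← zpow_natCast, ← zpow_mul]
      have e : u * ((p ^ k : ℕ) : ℤ) * (m : ℤ) = ((orderOf y : ℕ) : ℤ) * u := by
        rw [hnm]; push_cast; ring
      rw [e, zpow_mul, zpow_natCast, pow_orderOf_eq_one, one_zpow]
    have htp : (y ^ (v * (m : ℤ))) ^ (p ^ k) = 1 := by
      rw [← zpow_natCast, ← zpow_mul]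
      have e : v * (m : ℤ) * ((p ^ k : ℕ) : ℤ) = ((orderOf y : ℕ) : ℤ) * v := by
        rw [hnm]; push_cast; ring
      rw [e, zpow_mul, zpow_natCast, pow_orderOf_eq_one, one_zpow]
    have hs' : ¬ p ∣ orderOf (y ^ (u * ((p ^ k : ℕ) : ℤ))) :=
      fun hd => hm (dvd_trans hd (orderOf_dvd_of_pow_eq_one hsm))
    have ht' : ∃ j : ℕ, orderOf (y ^ (v * (m : ℤ))) = p ^ j := by
      obtain ⟨j, -, hj⟩ := (Nat.dvd_prime_pow hp).mp (orderOf_dvd_of_pow_eq_one htp)
      exact ⟨j, hj⟩
    have hsZ := pRegular_central h hA hsC hs'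
    have htA := pElement_mem h hA htC ht'
    have hcomm : y ^ (u * ((p ^ k : ℕ) : ℤ)) * y ^ (v * (m : ℤ))
        = y ^ (v * (m : ℤ)) * y ^ (u * ((p ^ k : ℕ) : ℤ)) := by
      rw [← zpow_add, ← zpow_add, add_comm]
    rw [hyst, hcomm]
    exact Subgroup.mul_mem_sup htA hsZ
  · apply sup_le
    · intro a ha
      rw [Subgroup.mem_centralizer_iff]
      intro b hb
      exact hA.comm b hb a ha
    · exact Subgroup.center_le_centralizer _

end Cfsg.Agent.Lib.Helper24.RU
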