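import Mathlib
import Cfsg.Prelude.Def_Characters
import Cfsg.Prelude.Def_Solvable
import Cfsg.Prelude.Def_Transfer
import Cfsg.Agent.Lib.Helper24.RU.Defs
import Cfsg.Agent.Lib.Helper11.Clifford
import Cfsg.Agent.Lib.Helper24.RU.N04
import Cfsg.Agent.Lib.Helper24.RU.N05

/-!
# S4751 farm, leaf N06 (architect helper24)

Keep the name, namespace and statement of `val_neg_one` exactly; replace only the `sorry`
(auxiliary lemmas with fresh names may be added above it in this file).
-/

set_option autoImplicit false

namespace Cfsg.Agent.Lib.Helper24.RU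

open scoped ComplexConjugate

variable {G : Type*} [Group G] [Fintype G] {p : ℕ} [Fact p.Prime] {χ : G → ℂ}

/-- [N06] `χ x = -1` for `1 ≠ x ∈ A` (expand `χ|_A` by N04; the sum of all irreducible characters of the abelian group `A` vanishes at `x ≠ 1`). -/
theorem val_neg_one (h : Hyp p χ) {A : Subgroup G} (hA : ANP p A) {x : G} (hx : x ∈ A)
    (hx1 : x ≠ 1) : χ x = -1 := by
  have := Helper13.restrict_apply h hA (⟨x, hx⟩ : A)
  rw [if_neg (fun e => hx1 (congrArg Subtype.val e)), zero_sub] at this
  exact this

end Cfsg.Agent.Lib.Helper24.RU
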