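import Mathlib
import Cfsg.Prelude.Def_Characters
import Cfsg.Prelude.Def_Solvable
import Cfsg.Prelude.Def_Transfer
import Cfsg.Agent.Lib.Helper24.RU.Defs
import Cfsg.Agent.Lib.Helper11.Clifford
import Cfsg.Agent.Lib.Helper24.RU.N06
import Cfsg.Agent.Lib.Helper11.BLCentral

/-!
# S4751 farm, leaf N16 (architect helper24)

Keep the name, namespace and statement of `inf_center` exactly; replace only the `sorry`
(auxiliary lemmas with fresh names may be added above it in this file).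
-/

set_option autoImplicit false

namespace Cfsg.Agent.Lib.Helper24.RU

open scoped ComplexConjugate

variable {G : Type*} [Group G] [Finite G] {p : ℕ} [Fact p.Prime] {χ : G → ℂ}

/-- [N16] `A ⊓ Z(G) = ⊥`: for `1 ≠ z ∈ A ⊓ Z(G)`, `χ z = χ z⁻¹ = -1` (N06) and `χ(1)² = χ z * χ z⁻¹` (`Helper11.IsIrrCharacter.central_mul`), so `χ 1 = 1`. -/
theorem inf_center (h : Hyp p χ) {A : Subgroup G} (hA : ANP p A) :
    A ⊓ Subgroup.center G = ⊥ := by
  classical
  have : Fintype G := Fintype.ofFinite G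
  rw [Subgroup.eq_bot_iff_forall]
  intro z hz
  by_contra hz1
  obtain ⟨hzA, hzZ⟩ := Subgroup.mem_inf.1 hz
  have h1 : χ z = -1 := val_neg_one h hA hzA hz1
  have h2 : χ z⁻¹ = -1 := val_neg_one h hA (A.inv_mem hzA) (by simpa using hz1)
  have hz' : ∀ k : G, z * k = k * z := fun k => ((Subgroup.mem_center_iff.1 hzZ) k).symm
  have h3 := Cfsg.Agent.Lib.Helper11.IsIrrCharacter.central_mul h.irr z hz' z⁻¹
  rw [mul_inv_cancel, h1, h2] at h3
  obtain ⟨n, hn1, -⟩ := Cfsg.Agent.Lib.Helper11.IsCharacter.exists_degree_norm_le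
    (Cfsg.Agent.Lib.Helper2.IsIrrCharacter.isCharacter h.irr)
  apply h.nl
  rw [hn1] at h3 ⊢
  have h4 : (n : ℂ) * (n : ℂ) = 1 := by rw [h3]; ring
  have h5 : n * n = 1 := by exact_mod_cast h4
  have h6 : n = 1 := by
    rcases Nat.eq_zero_or_pos n with rfl | hpos
    · simp at h5
    · nlinarith
  rw [h6]
  simp

end Cfsg.Agent.Lib.Helper24.RU
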