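import Mathlib
import Cfsg.Prelude.Def_Characters
import Cfsg.Prelude.Def_Solvable
import Cfsg.Prelude.Def_Transfer
import Cfsg.Agent.Lib.Helper24.RU.Defs
import Cfsg.Agent.Lib.Helper11.Clifford
import Cfsg.Agent.Lib.Helper24.RU.N05

/-!
# S4751 farm, leaf N11 (architect helper24)

Keep the name, namespace and statement of `anp_eq_of_le` exactly; replace only the `sorry`
(auxiliary lemmas with fresh names may be added above it in this file).
Proved in place by helper1.
-/

set_option autoImplicit false

namespace Cfsg.Agent.Lib.Helper24.RU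

open scoped ComplexConjugate

variable {G : Type*} [Group G] [Finite G] {p : ℕ} [Fact p.Prime] {χ : G → ℂ}

/-- [N11] two nested ANP subgroups coincide (both have order `χ 1 + 1` by N05). -/
theorem anp_eq_of_le (h : Hyp p χ) {A₁ A₂ : Subgroup G} (h1 : ANP p A₁) (h2 : ANP p A₂)
    (hle : A₁ ≤ A₂) : A₁ = A₂ := by
  have _inst : Fintype G := Fintype.ofFinite G
  have h1' := deg_eq h h1
  have h2' := deg_eq h h2
  have hc : (Nat.card A₁ : ℂ) = (Nat.card A₂ : ℂ) := by
    have : (Nat.card A₁ : ℂ) - 1 = (Nat.card A₂ : ℂ) - 1 := by rw [← h1', ← h2']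
    linear_combination this
  have hcard : Nat.card A₁ = Nat.card A₂ := by exact_mod_cast hc
  exact Subgroup.eq_of_le_of_card_ge hle hcard.ge

end Cfsg.Agent.Lib.Helper24.RU
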