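import Mathlib
import Cfsg.Prelude.Def_Characters
import Cfsg.Prelude.Def_Solvable
import Cfsg.Prelude.Def_Transfer
import Cfsg.Agent.Lib.Helper24.RU.Defs
import Cfsg.Agent.Lib.Helper11.Clifford
import Cfsg.Agent.Lib.Helper24.RU.N11

/-!
# S4751 farm, leaf N17 (architect helper24)

Keep the name, namespace and statement of `exp_p` exactly; replace only the `sorry`
(auxiliary lemmas with fresh names may be added above it in this file).
-/

set_option autoImplicit false

namespace Cfsg.Agent.Lib.Helper24.RU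

open scoped ComplexConjugate

variable {G : Type*} [Group G] [Finite G] {p : ℕ} [Fact p.Prime] {χ : G → ℂ}

/-- the subgroup of `p`-th powers of an abelian subgroup -/
def ru17PowSub (p : ℕ) (A : Subgroup G) (hcomm : ∀ x ∈ A, ∀ y ∈ A, x * y = y * x) :
    Subgroup G where
  carrier := {g | ∃ x ∈ A, x ^ p = g}
  one_mem' := ⟨1, A.one_mem, one_pow p⟩
  mul_mem' := by
    rintro _ _ ⟨x, hx, rfl⟩ ⟨y, hy, rfl⟩
    have hc : Commute x y := hcomm x hx y hy
    exact ⟨x * y, A.mul_mem hx hy, hc.mul_pow p⟩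
  inv_mem' := by
    rintro _ ⟨x, hx, rfl⟩
    exact ⟨x⁻¹, A.inv_mem hx, inv_pow x p⟩

theorem ru17_mem_powSub (p : ℕ) (A : Subgroup G) (hcomm : ∀ x ∈ A, ∀ y ∈ A, x * y = y * x)
    (g : G) : g ∈ ru17PowSub p A hcomm ↔ ∃ x ∈ A, x ^ p = g := Iff.rfl

/-- [N17] `A` has exponent `p`: the image `N` of the `p`-power endomorphism of `A` is a normal subgroup of `G` inside `A`; if `N ≠ ⊥` then `N = A` by N11, impossible for a nontrivial finite `p`-group. -/
theorem exp_p (h : Hyp p χ) {A : Subgroup G} (hA : ANP p A) : ∀ x ∈ A, x ^ p = 1 := by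
  have hp : p.Prime := Fact.out
  by_contra hne
  obtain ⟨x0, hx0'⟩ := not_forall.mp hne
  obtain ⟨hx0, hx0p⟩ := Classical.not_imp.mp hx0'
  have hNle : ru17PowSub p A hA.comm ≤ A := by
    intro g hg
    obtain ⟨x, hx, rfl⟩ := (ru17_mem_powSub p A hA.comm g).mp hg
    exact A.pow_mem hx p
  have hNne : ru17PowSub p A hA.comm ≠ ⊥ := by
    intro hbot
    apply hx0p
    have hmem : x0 ^ p ∈ ru17PowSub p A hA.comm :=
      (ru17_mem_powSub p A hA.comm _).mpr ⟨x0, hx0, rfl⟩
    rw [hbot, Subgroup.mem_bot] at hmem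
    exact hmem
  have hNnormal : (ru17PowSub p A hA.comm).Normal := by
    refine ⟨?_⟩
    intro n hn g
    obtain ⟨x, hx, rfl⟩ := (ru17_mem_powSub p A hA.comm n).mp hn
    exact (ru17_mem_powSub p A hA.comm _).mpr
      ⟨g * x * g⁻¹, hA.normal.conj_mem x hx g, conj_pow⟩
  have hNanp : ANP p (ru17PowSub p A hA.comm) :=
    ⟨hNnormal, hA.pgroup.to_le hNle,
      fun x hx y hy => hA.comm x (hNle hx) y (hNle hy), hNne⟩
  have hNA : ru17PowSub p A hA.comm = A := anp_eq_of_le h hNanp hA hNle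
  have hroot : ∀ k : ℕ, ∀ a ∈ A, ∃ c ∈ A, c ^ (p ^ k) = a := by
    intro k
    induction k with
    | zero => intro a ha; exact ⟨a, ha, by simp⟩
    | succ k ih =>
      intro a ha
      have haN : a ∈ ru17PowSub p A hA.comm := by rw [hNA]; exact ha
      obtain ⟨b, hb, rfl⟩ := (ru17_mem_powSub p A hA.comm a).mp haN
      obtain ⟨c, hc, rfl⟩ := ih b hb
      exact ⟨c, hc, by rw [← pow_mul, ← pow_succ]⟩
  obtain ⟨n, hn⟩ := IsPGroup.iff_card.mp hA.pgroup
  obtain ⟨c, hc, hcx⟩ := hroot n x0 hx0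
  have hc1 : c ^ (p ^ n) = 1 := by
    have h1 : (⟨c, hc⟩ : A) ^ Nat.card A = 1 := pow_card_eq_one'
    rw [hn] at h1
    have h2 := congrArg Subtype.val h1
    simpa using h2
  apply hx0p
  rw [← hcx, hc1, one_pow]

end Cfsg.Agent.Lib.Helper24.RU
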