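import Mathlib
import Cfsg.Prelude.Def_Characters
import Cfsg.Prelude.Def_Solvable
import Cfsg.Prelude.Def_Transfer
import Cfsg.Agent.Lib.Helper24.RU.Defs
import Cfsg.Agent.Lib.Helper11.Clifford
import Cfsg.Agent.Lib.Helper24.RU.N05

/-!
# S4751 farm, leaf N19 (architect helper24)

Keep the name, namespace and statement of `three_le_card` exactly; replace only the `sorry`
(auxiliary lemmas with fresh names may be added above it in this file).
Proved in place by helper1.
-/

set_option autoImplicit false

namespace Cfsg.Agent.Lib.Helper24.RU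

open scoped ComplexConjugate

variable {G : Type*} [Group G] [Finite G] {p : ℕ} [Fact p.Prime] {χ : G → ℂ}

/-- [N19] `3 ≤ |A|` (`χ 1 = |A| - 1` is a positive natural number different from `1`). -/
theorem three_le_card (h : Hyp p χ) {A : Subgroup G} (hA : ANP p A) : 3 ≤ Nat.card A := by
  have _inst : Fintype G := Fintype.ofFinite G
  have hdeg := deg_eq h hA
  have hne : Nat.card A ≠ 1 := by
    intro h1
    exact hA.ne_bot (Subgroup.card_eq_one.mp h1)
  have hpos : 0 < Nat.card A := Nat.card_pos
  have hne2 : Nat.card A ≠ 2 := by
    intro h2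
    apply h.nl
    rw [hdeg, h2]
    norm_num
  omega

end Cfsg.Agent.Lib.Helper24.RU
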