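import Mathlib
import Cfsg.Prelude.Def_Characters
import Cfsg.Prelude.Def_Solvable
import Cfsg.Prelude.Def_Transfer
import Cfsg.Agent.Lib.Helper24.RU.Defs
import Cfsg.Agent.Lib.Helper11.Clifford
import Cfsg.Agent.Lib.Helper24.RU.N01
import Cfsg.Agent.Lib.Helper24.RU.N05

/-!
# S4751 farm, leaf N18 (architect helper24)

Keep the name, namespace and statement of `card_dvd` exactly; replace only the `sorry`
(auxiliary lemmas with fresh names may be added above it in this file).
-/

set_option autoImplicit false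

namespace Cfsg.Agent.Lib.Helper24.RU

open scoped ComplexConjugate

variable {G : Type*} [Group G] [Finite G] {p : ℕ} [Fact p.Prime] {χ : G → ℂ}

/-- arithmetic core of N18 -/
theorem ru18_arith (a P n : ℕ) (ha : 2 ≤ a) (hP : 1 ≤ P) (hEq : a * a + P = P * n + 2 * a) :
    P ∣ a * (a - 2) := by
  obtain ⟨b, rfl⟩ := Nat.exists_eq_add_of_le ha
  have hn : 1 ≤ n := by
    by_contra hn0
    have hn0' : n = 0 := by omega
    subst hn0'
    nlinarith
  obtain ⟨m, rfl⟩ := Nat.exists_eq_add_of_le hn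
  refine ⟨m, ?_⟩
  have e : 2 + b - 2 = b := by omega
  rw [e]
  nlinarith

/-- [N18] the order of any `p`-subgroup `P` divides `|A| (|A| - 2)`: `∑_P |χ|² = χ(1)² + |P| - 1` (N01) is `|P|` times the natural number `⟨χ|_P, χ|_P⟩`, and `χ(1)² - 1 = |A| (|A| - 2)` (N05). -/
theorem card_dvd (h : Hyp p χ) {A : Subgroup G} (hA : ANP p A) (P : Subgroup G)
    (hP : IsPGroup p P) : Nat.card P ∣ Nat.card A * (Nat.card A - 2) := by
  classical
  have : Fintype G := Fintype.ofFinite G
  have : Fintype P := Fintype.ofFinite P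
  have hχchar : Cfsg.IsCharacter G χ := Cfsg.Agent.Lib.Helper2.IsIrrCharacter.isCharacter h.irr
  have hres : Cfsg.IsCharacter P (fun x : P => χ x) :=
    Cfsg.Agent.Lib.Helper2.IsCharacter.restrict hχchar P
  obtain ⟨n, hn⟩ := Cfsg.Agent.Lib.Helper2.classInner_isCharacter_nat hres hres
  have hsum := sum_normSq h P hP
  have hdeg := deg_eq h hA
  have ha2 : 2 ≤ Nat.card A := (Subgroup.one_lt_card_iff_ne_bot A).mpr hA.ne_bot
  have hP1 : 1 ≤ Nat.card P := Nat.card_pos
  have hPne : (Nat.card P : ℂ) ≠ 0 := by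
    have : Nat.card P ≠ 0 := by omega
    exact_mod_cast this
  unfold Cfsg.classInner at hn
  rw [hsum, hdeg] at hn
  have hEqC : ((Nat.card A : ℂ) - 1) * ((Nat.card A : ℂ) - 1) + ((Nat.card P : ℂ) - 1)
      = (Nat.card P : ℂ) * (n : ℂ) := by
    rw [← hn, ← mul_assoc, mul_inv_cancel₀ hPne, one_mul]
  have hEqC' : ((Nat.card A * Nat.card A + Nat.card P : ℕ) : ℂ)
      = ((Nat.card P * n + 2 * Nat.card A : ℕ) : ℂ) := by
    push_cast
    linear_combination hEqC
  have hEq : Nat.card A * Nat.card A + Nat.card P = Nat.card P * n + 2 * Nat.card A := by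
    exact_mod_cast hEqC'
  exact ru18_arith _ _ n ha2 hP1 hEq

end Cfsg.Agent.Lib.Helper24.RU
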