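import Mathlib
import Cfsg.Prelude.Def_Characters
import Cfsg.Prelude.Def_Solvable
import Cfsg.Prelude.Def_Transfer
import Cfsg.Agent.Lib.Helper24.RU.Defs
import Cfsg.Agent.Lib.Helper11.Clifford
import Cfsg.Agent.Lib.Helper24.RU.N18
import Cfsg.Agent.Lib.Helper24.RU.N19

/-!
# S4751 farm, leaf N20 (architect helper24)

Keep the name, namespace and statement of `sylow_or_two` exactly; replace only the `sorry`
(auxiliary lemmas with fresh names may be added above it in this file).
-/

set_option autoImplicit false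

namespace Cfsg.Agent.Lib.Helper24.RU

open scoped ComplexConjugate

variable {G : Type*} [Group G] [Finite G] {p : ℕ} [Fact p.Prime] {χ : G → ℂ}

namespace Helper25

/-- pure arithmetic behind N20 -/
theorem arith_sylow {p j k : ℕ} (hp : p.Prime) (hjk : j ≤ k) (h3 : 3 ≤ p ^ j)
    (hdvd : p ^ k ∣ p ^ j * (p ^ j - 2)) : k = j ∨ (p = 2 ∧ k = j + 1) := by
  obtain ⟨t, rfl⟩ := Nat.exists_eq_add_of_le hjk
  have hpos : 0 < p ^ j := pow_pos hp.pos j
  rw [pow_add] at hdvd
  have h1 : p ^ t ∣ p ^ j - 2 := Nat.dvd_of_mul_dvd_mul_left hpos hdvd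
  rcases Nat.eq_zero_or_pos t with rfl | ht
  · left; rfl
  · right
    have hj1 : 1 ≤ j := by
      rcases Nat.eq_zero_or_pos j with rfl | hj
      · simp at h3
      · exact hj
    have hpt : p ∣ p ^ t := dvd_pow_self p (by omega)
    have hpj : p ∣ p ^ j := dvd_pow_self p (by omega)
    have hp2 : p ∣ p ^ j - 2 := hpt.trans h1
    have hp22 : p ∣ 2 := by
      have h2 : p ∣ p ^ j - (p ^ j - 2) := Nat.dvd_sub hpj hp2
      have e : p ^ j - (p ^ j - 2) = 2 := by omega
      rwa [e] at h2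
    have hpe : p = 2 := (Nat.prime_dvd_prime_iff_eq hp Nat.prime_two).mp hp22
    refine ⟨hpe, ?_⟩
    subst hpe
    by_contra hne
    have ht2 : 2 ≤ t := by omega
    have h4 : 2 ^ 2 ∣ 2 ^ j - 2 := (pow_dvd_pow 2 ht2).trans h1
    have hj2 : 2 ≤ j := by
      by_contra hcon
      have : j = 1 := by omega
      subst this
      norm_num at h3
    obtain ⟨i, rfl⟩ := Nat.exists_eq_add_of_le hj2
    obtain ⟨c, hc⟩ := h4
    have e2 : 2 ^ (2 + i) = 4 * 2 ^ i := by rw [pow_add]; norm_num
    have hi : 0 < 2 ^ i := pow_pos (by norm_num) i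
    omega

end Helper25

/-- [N20] `O_p(G)` is a Sylow subgroup, or `p = 2` and it has index two in a `2`-subgroup (take a Sylow `p`-subgroup `S ≥ O_p(G)`; `|S|` divides `q (q - 2)` with `q = |O_p(G)| ≥ 3` a power of `p`). -/
theorem sylow_or_two (h : Hyp p χ) (hA : ANP p (Cfsg.pCore p G)) :
    (Nat.card ↥(Cfsg.pCore p G)).factorization p = (Nat.card G).factorization p ∨
    (p = 2 ∧ ∃ S : Subgroup G, Cfsg.pCore p G ≤ S ∧
      Nat.card S = 2 * Nat.card ↥(Cfsg.pCore p G)) := by
  have hp : p.Prime := Fact.out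
  obtain ⟨j, hj⟩ := IsPGroup.iff_card.mp hA.pgroup
  obtain ⟨S, hQS⟩ := IsPGroup.exists_le_sylow hA.pgroup
  have hS := S.card_eq_multiplicity
  have hdvd := card_dvd h hA (S : Subgroup G) S.isPGroup'
  have h3 := three_le_card h hA
  rw [hj] at h3
  rw [hS, hj] at hdvd
  have hjk : j ≤ (Nat.card G).factorization p := by
    have := Subgroup.card_dvd_of_le hQS
    rw [hj, hS] at this
    exact (Nat.pow_dvd_pow_iff_le_right hp.one_lt).mp this
  rcases Helper25.arith_sylow hp hjk h3 hdvd with hk | ⟨hp2, hk⟩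
  · left
    rw [hj, hk, hp.factorization_pow]
    simp
  · right
    refine ⟨hp2, (S : Subgroup G), hQS, ?_⟩
    rw [hS, hj, hk, pow_succ, hp2]
    ring

end Cfsg.Agent.Lib.Helper24.RU
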