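import Mathlib
import Cfsg.Prelude.Def_Characters
import Cfsg.Prelude.Def_Solvable
import Cfsg.Prelude.Def_Transfer
import Cfsg.Agent.Lib.Helper24.RU.Defs
import Cfsg.Agent.Lib.Helper11.Clifford

/-!
# S4751 farm, leaf N21 (architect helper24)

Keep the name, namespace and statement of `lin_constituent_unique` exactly; replace only the `sorry`
(auxiliary lemmas with fresh names may be added above it in this file).
-/

set_option autoImplicit false

namespace Cfsg.Agent.Lib.Helper24.RU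

open scoped ComplexConjugate

open Cfsg.Agent.Lib.Helper11

namespace Helper22

open Cfsg.Agent.Lib.Helper2

variable {S : Type*} [Group S] [Fintype S]

/-- The sum of a multiset of irreducible characters, as a function. -/
noncomputable def msum (m : Multiset (Cfsg.IrrCharacter S)) : S → ℂ :=
  (m.map (fun χ : Cfsg.IrrCharacter S => (χ : S → ℂ))).sum

theorem msum_zero : msum (0 : Multiset (Cfsg.IrrCharacter S)) = 0 := by
  simp [msum]

theorem msum_cons (a : Cfsg.IrrCharacter S) (m : Multiset (Cfsg.IrrCharacter S)) :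
    msum (a ::ₘ m) = (a : S → ℂ) + msum m := by
  simp [msum]

theorem classInner_zero_right (φ : S → ℂ) : Cfsg.classInner φ (0 : S → ℂ) = 0 := by
  simp [classInner_def]

theorem classInner_zero_left (φ : S → ℂ) : Cfsg.classInner (0 : S → ℂ) φ = 0 := by
  simp [classInner_def]

/-- `⟨a, Σ m⟩ = count a m`. -/
theorem classInner_irr_msum [DecidableEq (Cfsg.IrrCharacter S)] (a : Cfsg.IrrCharacter S)
    (m : Multiset (Cfsg.IrrCharacter S)) :
    Cfsg.classInner (a : S → ℂ) (msum m) = (m.count a : ℂ) := by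
  induction m using Multiset.induction_on with
  | empty => simp [msum_zero, classInner_zero_right]
  | cons b t ih =>
    rw [msum_cons, classInner_add_right, ih, Multiset.count_cons, classInner_irrCharacter]
    split_ifs <;> simp [add_comm]

/-- `⟨Σ m₁, Σ m₂⟩ = Σ_{a ∈ m₁} count a m₂`. -/
theorem classInner_msum_msum [DecidableEq (Cfsg.IrrCharacter S)]
    (m₁ m₂ : Multiset (Cfsg.IrrCharacter S)) :
    Cfsg.classInner (msum m₁) (msum m₂) =
      (((m₁.map (fun a => m₂.count a)).sum : ℕ) : ℂ) := by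
  induction m₁ using Multiset.induction_on with
  | empty => simp [msum_zero, classInner_zero_left]
  | cons b t ih =>
    rw [msum_cons, classInner_add_left, ih, classInner_irr_msum, Multiset.map_cons,
      Multiset.sum_cons]
    push_cast
    rfl

/-- `⟨Σ m, Σ m⟩` is a natural number `≥ card m`. -/
theorem exists_classInner_msum_self (m : Multiset (Cfsg.IrrCharacter S)) :
    ∃ K : ℕ, Cfsg.classInner (msum m) (msum m) = (K : ℂ) ∧ Multiset.card m ≤ K := by
  classical
  refine ⟨_, classInner_msum_msum m m, ?_⟩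
  have h := Multiset.card_nsmul_le_sum (s := m.map (fun a => m.count a)) (a := 1) (by
    intro x hx
    obtain ⟨a, ha, rfl⟩ := Multiset.mem_map.mp hx
    exact Multiset.one_le_count_iff_mem.mpr ha)
  simpa using h

/-- If all members of `m` have degree `≤ 2`, then `(Σ m)(1)` is a natural number `≤ 2 card m`. -/
theorem exists_msum_apply_one (m : Multiset (Cfsg.IrrCharacter S))
    (hdeg : ∀ a ∈ m, ∀ n : ℕ, (a : S → ℂ) 1 = n → n ≤ 2) :
    ∃ d : ℕ, msum m 1 = (d : ℂ) ∧ d ≤ 2 * Multiset.card m := by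
  induction m using Multiset.induction_on with
  | empty => exact ⟨0, by simp [msum_zero], by simp⟩
  | cons b t ih =>
    obtain ⟨d, hd, hle⟩ := ih (fun a ha => hdeg a (Multiset.mem_cons_of_mem ha))
    obtain ⟨n, _, hn⟩ := IsIrrCharacter.apply_one b.2
    have hn2 : n ≤ 2 := hdeg b (Multiset.mem_cons_self b t) n hn
    refine ⟨n + d, ?_, ?_⟩
    · rw [msum_cons, Pi.add_apply, hd, hn]
      push_cast
      rfl
    · rw [Multiset.card_cons]
      omega

/-- The norm of `θ`: `2 ⟨θ, θ⟩ = |M|`. -/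
theorem two_mul_classInner_self {θ : S → ℂ} (c : ℕ) (hcard : Nat.card S = 2 * c) (hc : 0 < c)
    (hθ1 : θ 1 = (c : ℂ) - 1) (hθu : ∀ s : S, s ≠ 1 → θ s * conj (θ s) = 1) :
    2 * Cfsg.classInner θ θ = (c : ℂ) := by
  classical
  rw [classInner_def, hcard]
  have hsum : ∑ g : S, θ g * conj (θ g) = ((c : ℂ) - 1) * ((c : ℂ) - 1) + ((2 * c : ℕ) - 1 : ℂ) := by
    rw [← Finset.add_sum_erase Finset.univ (fun g => θ g * conj (θ g)) (Finset.mem_univ (1 : S))]
    congr 1
    · rw [hθ1]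
      simp
    · rw [Finset.sum_congr rfl (fun s hs => hθu s (Finset.ne_of_mem_erase hs))]
      rw [Finset.sum_const, Finset.card_erase_of_mem (Finset.mem_univ _), Finset.card_univ,
        ← Nat.card_eq_fintype_card, hcard]
      rw [nsmul_eq_mul, mul_one, Nat.cast_sub (by omega)]
      simp
  rw [hsum]
  have hc0 : (c : ℂ) ≠ 0 := by exact_mod_cast hc.ne'
  push_cast
  field_simp
  ring

end Helper22

variable {S : Type*} [Group S] [Fintype S] {θ : S → ℂ}

/-- [N21] abstract: `M` abelian of index two in `S`, `θ` a character with `θ 1 = |M| - 1` and `|θ s| = 1` off the identity. Then `⟨θ, θ⟩ = |M| / 2`, all irreducible degrees are `≤ 2` (`Helper2.degree_le_index_of_comm`), so `∑ m_ψ (2 - ψ 1) ≤ 2 ∑ m_ψ² - (|M| - 1) = 1`: at most one linear constituent. -/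
theorem lin_constituent_unique (hθ : Cfsg.IsCharacter S θ) (M : Subgroup S)
    (hM : ∀ x ∈ M, ∀ y ∈ M, x * y = y * x) (hidx : M.index = 2)
    (hθ1 : θ 1 = (Nat.card M : ℂ) - 1) (hθu : ∀ s : S, s ≠ 1 → θ s * conj (θ s) = 1)
    (ν₁ ν₂ : Cfsg.IrrCharacter S) (h1 : (ν₁ : S → ℂ) 1 = 1) (h2 : (ν₂ : S → ℂ) 1 = 1)
    (hc1 : Cfsg.classInner θ (ν₁ : S → ℂ) ≠ 0) (hc2 : Cfsg.classInner θ (ν₂ : S → ℂ) ≠ 0) :
    ν₁ = ν₂ := by
  classical
  by_contra hne
  -- split off the two constituents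
  obtain ⟨Ψ₁, hΨ₁, hθΨ₁⟩ := Cfsg.Agent.Lib.Helper2.exists_add_of_classInner_ne_zero hθ ν₁ hc1
  have hc2' : Cfsg.classInner Ψ₁ (ν₂ : S → ℂ) ≠ 0 := by
    intro h0
    apply hc2
    rw [hθΨ₁, Cfsg.Agent.Lib.Helper2.classInner_add_left,
      Cfsg.Agent.Lib.Helper2.classInner_irrCharacter_ne hne, h0, add_zero]
  obtain ⟨Ψ₂, hΨ₂, hΨ₁Ψ₂⟩ := Cfsg.Agent.Lib.Helper2.exists_add_of_classInner_ne_zero hΨ₁ ν₂ hc2'
  obtain ⟨m', hm'⟩ := Cfsg.Agent.Lib.Helper2.IsCharacter.exists_multiset_irr hΨ₂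
  have hθm : θ = Helper22.msum (ν₁ ::ₘ ν₂ ::ₘ m') := by
    rw [Helper22.msum_cons, Helper22.msum_cons, hθΨ₁, hΨ₁Ψ₂, hm']
    rfl
  -- sizes
  have hcard : Nat.card S = 2 * Nat.card M := by
    rw [← hidx, mul_comm]
    exact (Subgroup.card_mul_index M).symm
  have hc : 0 < Nat.card M := Nat.card_pos
  -- degrees
  have hdeg : ∀ a ∈ (ν₁ ::ₘ ν₂ ::ₘ m'), ∀ n : ℕ, (a : S → ℂ) 1 = n → n ≤ 2 := by
    intro a _ n hn
    have := Cfsg.Agent.Lib.Helper2.degree_le_index_of_comm a M hM n hn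
    rwa [hidx] at this
  obtain ⟨d, hd, hdle⟩ := Helper22.exists_msum_apply_one m'
    (fun a ha => hdeg a (Multiset.mem_cons_of_mem (Multiset.mem_cons_of_mem ha)))
  obtain ⟨K, hK, hKle⟩ := Helper22.exists_classInner_msum_self (ν₁ ::ₘ ν₂ ::ₘ m')
  have hnorm := Helper22.two_mul_classInner_self (θ := θ) (Nat.card M) hcard hc hθ1 hθu
  rw [hθm, hK] at hnorm
  have hnormN : 2 * K = Nat.card M := by exact_mod_cast hnorm
  have hone : θ 1 = ((2 + d : ℕ) : ℂ) := by
    rw [hθm, Helper22.msum_cons, Helper22.msum_cons, Pi.add_apply, Pi.add_apply, h1, h2, hd]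
    push_cast
    ring
  rw [hθ1] at hone
  have honeN : Nat.card M = 2 + d + 1 := by
    have : (Nat.card M : ℂ) = ((2 + d + 1 : ℕ) : ℂ) := by
      push_cast
      push_cast at hone
      linear_combination hone
    exact_mod_cast this
  rw [Multiset.card_cons, Multiset.card_cons] at hKle
  omega

end Cfsg.Agent.Lib.Helper24.RU
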