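import Mathlib
import Cfsg.Prelude.Def_Characters
import Cfsg.Prelude.Def_Solvable
import Cfsg.Prelude.Def_Transfer
import Cfsg.Agent.Lib.Helper24.RU.Defs
import Cfsg.Agent.Lib.Helper11.Clifford
import Cfsg.Agent.Lib.Helper24.RU.N03
import Cfsg.Agent.Lib.Helper24.RU.N21

/-!
# S4751 farm, leaf N22 (architect helper24)

Keep the name, namespace and statement of `inv_linear_constituent` exactly; replace only the `sorry`
(auxiliary lemmas with fresh names may be added above it in this file).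
-/

set_option autoImplicit false

namespace Cfsg.Agent.Lib.Helper24.RU

open scoped ComplexConjugate

open Cfsg.Agent.Lib.Helper11

namespace Helper22

open Cfsg.Agent.Lib.Helper2

variable {S : Type*} [Group S] [Fintype S]

/-- If `⟨(Σ m)|_M, φ⟩ ≠ 0` then some member of `m` has `⟨ν|_M, φ⟩ ≠ 0`. -/
theorem exists_mem_restrict_ne_zero (M : Subgroup S) [Fintype M] (φ : M → ℂ)
    (m : Multiset (Cfsg.IrrCharacter S))
    (h : Cfsg.classInner (fun x : M => msum m x) φ ≠ 0) :
    ∃ ν ∈ m, Cfsg.classInner (fun x : M => (ν : S → ℂ) x) φ ≠ 0 := by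
  induction m using Multiset.induction_on with
  | empty =>
    exfalso
    apply h
    rw [msum_zero]
    exact classInner_zero_left φ
  | cons b t ih =>
    by_cases hb : Cfsg.classInner (fun x : M => (b : S → ℂ) x) φ = 0
    · have ht : Cfsg.classInner (fun x : M => msum t x) φ ≠ 0 := by
        intro h0
        apply h
        have : (fun x : M => msum (b ::ₘ t) x) =
            (fun x : M => (b : S → ℂ) x) + (fun x : M => msum t x) := by
          funext x
          rw [msum_cons]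
          rfl
        rw [this, classInner_add_left, hb, h0, add_zero]
      obtain ⟨ν, hν, hν'⟩ := ih ht
      exact ⟨ν, Multiset.mem_cons_of_mem hν, hν'⟩
    · exact ⟨b, Multiset.mem_cons_self b t, hb⟩

end Helper22

variable {S : Type*} [Group S] [Fintype S] {θ : S → ℂ}

/-- [N22] abstract: an `S`-invariant linear constituent `lam` of multiplicity one of `θ|_M` (`M` normal) is the restriction of a linear constituent `ν` of `θ`: some constituent `ψ` of `θ` has `⟨ψ|_M, lam⟩ = 1`, and by Clifford (N03 / `clifford_conj`) `ψ|_M = lam`. -/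
theorem inv_linear_constituent (hθ : Cfsg.IsCharacter S θ) (M : Subgroup S) [hMn : M.Normal]
    [Fintype M] (lam : Cfsg.IrrCharacter M) (hlam1 : (lam : M → ℂ) 1 = 1)
    (hinv : ∀ s : S, conjFn M s (lam : M → ℂ) = (lam : M → ℂ))
    (hmult : Cfsg.classInner (fun m : M => θ m) (lam : M → ℂ) = 1) :
    ∃ ν : Cfsg.IrrCharacter S, (ν : S → ℂ) 1 = 1 ∧ Cfsg.classInner θ (ν : S → ℂ) ≠ 0 ∧
      (fun m : M => (ν : S → ℂ) m) = (lam : M → ℂ) := by
  classical
  obtain ⟨m, hm⟩ := Cfsg.Agent.Lib.Helper2.IsCharacter.exists_multiset_irr hθ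
  have hθm : θ = Helper22.msum m := hm
  have hne : Cfsg.classInner (fun x : M => Helper22.msum m x) (lam : M → ℂ) ≠ 0 := by
    rw [← hθm, hmult]
    exact one_ne_zero
  obtain ⟨ν, hνm, hν⟩ := Helper22.exists_mem_restrict_ne_zero M (lam : M → ℂ) m hne
  obtain ⟨m'', rfl⟩ := Multiset.exists_cons_of_mem hνm
  have hΨ : Cfsg.IsCharacter S (Helper22.msum m'') :=
    Cfsg.Agent.Lib.Helper2.isCharacter_multiset_sum m''
  have hθsum : θ = (ν : S → ℂ) + Helper22.msum m'' := by
    rw [hθm, Helper22.msum_cons]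
  have hνc : Cfsg.IsCharacter S (ν : S → ℂ) := Cfsg.Agent.Lib.Helper2.IsIrrCharacter.isCharacter ν.2
  have hlamc : Cfsg.IsCharacter M (lam : M → ℂ) :=
    Cfsg.Agent.Lib.Helper2.IsIrrCharacter.isCharacter lam.2
  -- multiplicities
  obtain ⟨a, ha⟩ := Cfsg.Agent.Lib.Helper2.classInner_isCharacter_nat
    (Cfsg.Agent.Lib.Helper2.IsCharacter.restrict hνc M) hlamc
  obtain ⟨b, hb⟩ := Cfsg.Agent.Lib.Helper2.classInner_isCharacter_nat
    (Cfsg.Agent.Lib.Helper2.IsCharacter.restrict hΨ M) hlamc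
  have hres : (fun x : M => θ x) = (fun x : M => (ν : S → ℂ) x) + (fun x : M => Helper22.msum m'' x) := by
    funext x
    rw [hθsum]
    rfl
  have hab : a + b = 1 := by
    have h1 := hmult
    rw [hres, Cfsg.Agent.Lib.Helper2.classInner_add_left, ha, hb] at h1
    exact_mod_cast h1
  have ha0 : a ≠ 0 := by
    intro h0
    apply hν
    rw [ha, h0]
    simp
  have ha1 : a = 1 := by omega
  rw [ha1] at ha
  -- `⟨θ, ν⟩ ≠ 0`
  have hθν : Cfsg.classInner θ (ν : S → ℂ) ≠ 0 := by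
    obtain ⟨c, hc⟩ := Cfsg.Agent.Lib.Helper2.classInner_isCharacter_nat hΨ hνc
    rw [hθsum, Cfsg.Agent.Lib.Helper2.classInner_add_left,
      Cfsg.Agent.Lib.Helper2.classInner_irrCharacter_self, hc]
    have : (1 + c : ℕ) ≠ 0 := by omega
    exact_mod_cast this
  -- `ν|_M = lam`
  have hνM : Cfsg.IsCharacter M (fun x : M => (ν : S → ℂ) x) :=
    Cfsg.Agent.Lib.Helper2.IsCharacter.restrict hνc M
  have ha' : Cfsg.classInner (fun x : M => (ν : S → ℂ) x) (lam : M → ℂ) ≠ 0 := by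
    rw [ha]
    simp
  obtain ⟨Ψ, hΨc, hνΨ⟩ := Cfsg.Agent.Lib.Helper2.exists_add_of_classInner_ne_zero hνM lam ha'
  have hΨ0 : Ψ = 0 := by
    by_contra hΨne
    obtain ⟨φ, Ψ', hΨ'c, hΨφ⟩ := Cfsg.Agent.Lib.Helper2.exists_irr_add_of_ne_zero hΨc hΨne
    have hφc : Cfsg.IsCharacter M (φ : M → ℂ) :=
      Cfsg.Agent.Lib.Helper2.IsIrrCharacter.isCharacter φ.2
    -- `φ` is a constituent of `ν|_M`
    obtain ⟨c1, hc1⟩ := Cfsg.Agent.Lib.Helper2.classInner_isCharacter_nat hlamc hφc
    obtain ⟨c2, hc2⟩ := Cfsg.Agent.Lib.Helper2.classInner_isCharacter_nat hΨ'c hφc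
    have hφne : Cfsg.classInner (fun x : M => (ν : S → ℂ) x) (φ : M → ℂ) ≠ 0 := by
      rw [hνΨ, hΨφ, Cfsg.Agent.Lib.Helper2.classInner_add_left,
        Cfsg.Agent.Lib.Helper2.classInner_add_left,
        Cfsg.Agent.Lib.Helper2.classInner_irrCharacter_self, hc1, hc2]
      have : (c1 + (1 + c2) : ℕ) ≠ 0 := by omega
      exact_mod_cast this
    obtain ⟨g, hg⟩ := clifford_conj M ν.2 lam.2 φ.2 ha' hφne
    rw [hinv g] at hg
    -- so `φ = lam` and the multiplicity of `lam` in `ν|_M` is at least two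
    obtain ⟨c3, hc3⟩ := Cfsg.Agent.Lib.Helper2.classInner_isCharacter_nat hΨ'c hlamc
    have h2 := ha
    rw [hνΨ, hΨφ, hg, Cfsg.Agent.Lib.Helper2.classInner_add_left,
      Cfsg.Agent.Lib.Helper2.classInner_add_left,
      Cfsg.Agent.Lib.Helper2.classInner_irrCharacter_self, hc3] at h2
    have : (1 + (1 + c3) : ℕ) = 1 := by exact_mod_cast h2
    omega
  have hνlam : (fun x : M => (ν : S → ℂ) x) = (lam : M → ℂ) := by
    rw [hνΨ, hΨ0, add_zero]
  refine ⟨ν, ?_, hθν, hνlam⟩
  have := congrFun hνlam 1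
  simpa [hlam1] using this

end Cfsg.Agent.Lib.Helper24.RU
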