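import Mathlib
import Cfsg.Prelude.Def_Characters
import Cfsg.Prelude.Def_Solvable
import Cfsg.Prelude.Def_Transfer
import Cfsg.Agent.Lib.Helper24.RU.Defs
import Cfsg.Agent.Lib.Helper11.Clifford
import Cfsg.Agent.Lib.Helper11.Clifford3
import Cfsg.Agent.Lib.Helper2.Linear

/-!
# S4751 farm, leaf N23 (architect helper24)

Keep the name, namespace and statement of `exists_two_invariant` exactly; replace only the `sorry`
(auxiliary lemmas with fresh names may be added above it in this file).
-/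

set_option autoImplicit false

namespace Cfsg.Agent.Lib.Helper24.RU

open scoped ComplexConjugate

open Cfsg.Agent.Lib.Helper11

namespace Helper3

/-- In a finite group `Q` with at least three elements there are `u, v ≠ 1` with `u⁻¹ v ≠ 1`. -/
theorem exists_two_ne_one {Q : Type*} [Group Q] [Finite Q] (h : 3 ≤ Nat.card Q) :
    ∃ u v : Q, u ≠ 1 ∧ v ≠ 1 ∧ u⁻¹ * v ≠ 1 := by
  classical
  haveI : Fintype Q := Fintype.ofFinite Q
  rw [Nat.card_eq_fintype_card] at h
  obtain ⟨a, b, c, hab, hac, hbc⟩ := Fintype.two_lt_card_iff.1 (by omega : 2 < Fintype.card Q)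
  refine ⟨a⁻¹ * b, a⁻¹ * c, ?_, ?_, ?_⟩
  · intro h1; exact hab (by rw [inv_mul_eq_one] at h1; exact h1)
  · intro h1; exact hac (by rw [inv_mul_eq_one] at h1; exact h1)
  · intro h1
    apply hbc
    have : (a⁻¹ * b)⁻¹ * (a⁻¹ * c) = b⁻¹ * c := by group
    rw [this, inv_mul_eq_one] at h1
    exact h1

/-- A unit of `ℂ` of square one different from one: two such have quotient one. -/
theorem units_quot_eq_one {a b : ℂˣ} (ha : a * a = 1) (hb : b * b = 1) (ha1 : a ≠ 1) (hb1 : b ≠ 1) :
    a⁻¹ * b = 1 := by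
  have key : ∀ z : ℂˣ, z * z = 1 → z ≠ 1 → (z : ℂ) = -1 := by
    intro z hz hz1
    have h1 : (z : ℂ) * (z : ℂ) = 1 := by
      have := congrArg Units.val hz
      rwa [Units.val_mul, Units.val_one] at this
    rcases mul_self_eq_one_iff.1 h1 with h | h
    · exact absurd (Units.ext (by simpa using h)) hz1
    · exact h
  have hab : a = b := Units.ext (by rw [key a ha ha1, key b hb hb1])
  rw [hab, inv_mul_cancel]

end Helper3

variable {S : Type*} [Group S] [Fintype S] {θ : S → ℂ}

/-- [N23] abstract: `M` elementary abelian `2`-group, normal of index two in `S`, `|M| > 4`. For `t ∉ M` the map `x ↦ x * (t x t⁻¹)` is an endomorphism of `M` whose image `W` lies in its kernel, so `|M : W| ≥ 3`; characters of `M` trivial on `W` are `S`-invariant, and there are two distinct nonprincipal ones (`Helper11.exists_char_trivial_ne_one_of_abelian_quotient` in `Clifford3`, `Helper2.isIrrCharacter_of_monoidHom`). -/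
theorem exists_two_invariant (M : Subgroup S) [hMn : M.Normal]
    (hM : ∀ x ∈ M, ∀ y ∈ M, x * y = y * x) (hM2 : ∀ x ∈ M, x ^ 2 = 1) (hidx : M.index = 2)
    (hcard : 4 < Nat.card M) :
    ∃ lam₁ lam₂ : Cfsg.IrrCharacter M, lam₁ ≠ lam₂ ∧
      (lam₁ : M → ℂ) ≠ (fun _ => (1 : ℂ)) ∧ (lam₂ : M → ℂ) ≠ (fun _ => (1 : ℂ)) ∧
      (∀ s : S, conjFn M s (lam₁ : M → ℂ) = (lam₁ : M → ℂ)) ∧
      (∀ s : S, conjFn M s (lam₂ : M → ℂ) = (lam₂ : M → ℂ)) := by
  classical
  -- an element outside `M`
  have hne : M ≠ ⊤ := by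
    intro h; rw [h, Subgroup.index_top] at hidx; omega
  obtain ⟨t, ht⟩ : ∃ t : S, t ∉ M := by
    by_contra hcon
    push Not at hcon
    exact hne (eq_top_iff.2 fun x _ => hcon x)
  have hMc : ∀ a b : M, a * b = b * a := fun a b => Subtype.ext (hM a a.2 b b.2)
  have hsq : ∀ x : M, x * x = 1 := fun x => Subtype.ext (by
    have := hM2 x x.2
    rw [pow_two] at this
    exact this)
  -- conjugation by `t` on `M`
  let ct : M →* M := (MulAut.conjNormal t : M ≃* M).toMonoidHom
  have hct : ∀ x : M, ((ct x : M) : S) = t * x * t⁻¹ := fun x => rfl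
  have hctct : ∀ x : M, ct (ct x) = x := by
    intro x
    apply Subtype.ext
    rw [hct, hct]
    have htt : t * t ∈ M := Subgroup.mul_self_mem_of_index_two hidx t
    have hc := hM (t * t) htt x x.2
    calc t * (t * (x : S) * t⁻¹) * t⁻¹ = (t * t * x) * (t * t)⁻¹ := by group
      _ = (x * (t * t)) * (t * t)⁻¹ := by rw [hc]
      _ = x := by group
  -- the endomorphism `x ↦ x * t x t⁻¹`
  let f : M →* M :=
    { toFun := fun x => x * ct x
      map_one' := by simp
      map_mul' := by
        intro x y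
        show x * y * ct (x * y) = x * ct x * (y * ct y)
        rw [map_mul]
        calc x * y * (ct x * ct y) = x * (y * ct x) * ct y := by group
          _ = x * (ct x * y) * ct y := by rw [hMc y (ct x)]
          _ = x * ct x * (y * ct y) := by group }
  have hf : ∀ x : M, f x = x * ct x := fun x => rfl
  have hff : ∀ x : M, f (f x) = 1 := by
    intro x
    rw [hf (f x), hf x, map_mul, hctct]
    calc x * ct x * (ct x * x) = x * (ct x * ct x) * x := by group
      _ = 1 := by rw [hsq (ct x), mul_one, hsq x]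
  set W : Subgroup M := f.range with hW
  set K : Subgroup M := f.ker with hK
  have hWK : W ≤ K := by
    rintro _ ⟨x, rfl⟩
    exact (MonoidHom.mem_ker).2 (hff x)
  haveI hWn : W.Normal := ⟨fun n hn g => by
    rw [hMc g n, mul_assoc, mul_inv_cancel, mul_one]; exact hn⟩
  -- counting: `3 ≤ |M : W|`
  have hidx3 : 3 ≤ W.index := by
    have h1 : Nat.card K * Nat.card W = Nat.card M := by
      have := Subgroup.card_mul_index K
      rw [hK, Subgroup.index_ker f] at this
      exact this
    have h2 : Nat.card W * W.index = Nat.card M := Subgroup.card_mul_index W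
    have h3 : Nat.card W ≤ Nat.card K := Subgroup.card_le_of_le hWK
    have hwpos : 0 < Nat.card W := Nat.card_pos
    by_contra hcon
    push Not at hcon
    have hi2 : W.index ≤ 2 := by omega
    have h4 : Nat.card W * Nat.card W ≤ Nat.card W * W.index := by
      rw [h2, ← h1]
      exact Nat.mul_le_mul_right _ h3
    have h5 : Nat.card W ≤ W.index := Nat.le_of_mul_le_mul_left h4 hwpos
    have h6 : Nat.card W * W.index ≤ 2 * 2 := Nat.mul_le_mul (h5.trans hi2) hi2
    omega
  -- two cosets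
  have hQ : 3 ≤ Nat.card (M ⧸ W) := by rw [← Subgroup.index_eq_card]; exact hidx3
  obtain ⟨ub, vb, hub, hvb, hubvb⟩ := Helper3.exists_two_ne_one hQ
  obtain ⟨u, rfl⟩ := QuotientGroup.mk_surjective ub
  obtain ⟨v, rfl⟩ := QuotientGroup.mk_surjective vb
  have hu : u ∉ W := fun h => hub ((QuotientGroup.eq_one_iff u).2 h)
  have hv : v ∉ W := fun h => hvb ((QuotientGroup.eq_one_iff v).2 h)
  have huv : u⁻¹ * v ∉ W := fun h => hubvb (by
    rw [← QuotientGroup.mk_inv, ← QuotientGroup.mk_mul]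
    exact (QuotientGroup.eq_one_iff _).2 h)
  have hab : ∀ x y : M, x * y * x⁻¹ * y⁻¹ ∈ W := by
    intro x y
    have : x * y * x⁻¹ * y⁻¹ = 1 := by
      rw [hMc x y]; group
    rw [this]; exact one_mem _
  -- first character
  obtain ⟨φ₁, hφ₁W, hφ₁u⟩ := exists_char_trivial_ne_one_of_abelian_quotient W hab hu
  have hφsq : ∀ (φ : M →* ℂˣ) (x : M), φ x * φ x = 1 := by
    intro φ x; rw [← map_mul, hsq x, map_one]
  -- an element `w ∉ W` with `φ₁ w = 1`
  obtain ⟨w, hwW, hφ₁w⟩ : ∃ w : M, w ∉ W ∧ φ₁ w = 1 := by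
    by_cases hv1 : φ₁ v = 1
    · exact ⟨v, hv, hv1⟩
    · refine ⟨u⁻¹ * v, huv, ?_⟩
      rw [map_mul, map_inv]
      exact Helper3.units_quot_eq_one (hφsq φ₁ u) (hφsq φ₁ v) hφ₁u hv1
  obtain ⟨φ₂, hφ₂W, hφ₂w⟩ := exists_char_trivial_ne_one_of_abelian_quotient W hab hwW
  -- invariance of characters trivial on `W`
  have hinv : ∀ φ : M →* ℂˣ, (∀ n ∈ W, φ n = 1) → ∀ s : S,
      conjFn M s (fun x : M => (φ x : ℂ)) = fun x : M => (φ x : ℂ) := by
    intro φ hφ s
    funext x
    rw [conjFn_apply]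
    by_cases hs : s ∈ M
    · have e : (⟨s * x * s⁻¹, hMn.conj_mem x x.2 s⟩ : M) = x :=
        Subtype.ext (by
          show s * (x : S) * s⁻¹ = x
          rw [hM s hs x x.2, mul_assoc, mul_inv_cancel, mul_one])
      rw [e]
    · have hts : t⁻¹ * s ∈ M := by
        rw [Subgroup.mul_mem_iff_of_index_two hidx, inv_mem_iff]
        exact ⟨fun h => absurd h ht, fun h => absurd h hs⟩
      have e : (⟨s * x * s⁻¹, hMn.conj_mem x x.2 s⟩ : M) = ct x :=
        Subtype.ext (by
          show s * (x : S) * s⁻¹ = t * x * t⁻¹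
          have hc := hM (t⁻¹ * s) hts x x.2
          calc s * (x : S) * s⁻¹ = t * ((t⁻¹ * s) * x) * (t⁻¹ * s)⁻¹ * t⁻¹ := by group
            _ = t * (x * (t⁻¹ * s)) * (t⁻¹ * s)⁻¹ * t⁻¹ := by rw [hc]
            _ = t * x * t⁻¹ := by group)
      rw [e]
      have h1 : φ (f x) = 1 := hφ _ ⟨x, rfl⟩
      have h2 : φ x * φ (ct x) = 1 := by rw [← map_mul]; exact h1
      have h3 : φ x * φ x = 1 := hφsq φ x
      have h4 : φ (ct x) = φ x := mul_left_cancel (h2.trans h3.symm)
      rw [h4]
  refine ⟨⟨fun x : M => (φ₁ x : ℂ), Cfsg.Agent.Lib.Helper2.isIrrCharacter_of_monoidHom φ₁⟩,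
    ⟨fun x : M => (φ₂ x : ℂ), Cfsg.Agent.Lib.Helper2.isIrrCharacter_of_monoidHom φ₂⟩,
    ?_, ?_, ?_, hinv φ₁ hφ₁W, hinv φ₂ hφ₂W⟩
  · intro h
    have h' := congrFun (congrArg Subtype.val h) w
    simp only at h'
    rw [hφ₁w] at h'
    apply hφ₂w
    exact Units.ext (by rw [← h'])
  · intro h
    have h' := congrFun h u
    simp only at h'
    exact hφ₁u (Units.ext (by rw [h']; rfl))
  · intro h
    have h' := congrFun h w
    simp only at h'
    exact hφ₂w (Units.ext (by rw [h']; rfl))

end Cfsg.Agent.Lib.Helper24.RU
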