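import Mathlib
import Cfsg.Prelude.Def_Characters
import Cfsg.Prelude.Def_Solvable
import Cfsg.Prelude.Def_Transfer
import Cfsg.Agent.Lib.Helper24.RU.Defs
import Cfsg.Agent.Lib.Helper11.Clifford
import Cfsg.Agent.Lib.Helper24.RU.N21
import Cfsg.Agent.Lib.Helper24.RU.N22
import Cfsg.Agent.Lib.Helper24.RU.N23
import Cfsg.Agent.Lib.Helper24.S3282CT45
import Cfsg.Agent.Lib.Helper2.Orthogonality
import Cfsg.Agent.Lib.Helper2.Linear

/-!
# S4751 farm, leaf N24 (architect helper24)

Keep the name, namespace and statement of `card_le_four_abstract` exactly; replace only the `sorry`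
(auxiliary lemmas with fresh names may be added above it in this file).
-/

set_option autoImplicit false

namespace Cfsg.Agent.Lib.Helper24.RU

open scoped ComplexConjugate

open Cfsg.Agent.Lib.Helper11

variable {S : Type*} [Group S] [Fintype S] {θ : S → ℂ}

namespace Helper13

/-- `θ|_M = ρ_M - 1_M` has multiplicity one on every nonprincipal irreducible character of `M`. -/
theorem mult_eq_one_of_ne_one (M : Subgroup S) [Fintype M]
    (hθ1 : θ 1 = (Nat.card M : ℂ) - 1) (hθM : ∀ x ∈ M, x ≠ 1 → θ x = -1)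
    (lam : Cfsg.IrrCharacter M) (hl1 : (lam : M → ℂ) 1 = 1)
    (hnp : (lam : M → ℂ) ≠ (fun _ => (1 : ℂ))) :
    Cfsg.classInner (fun m : M => θ m) (lam : M → ℂ) = 1 := by
  classical
  let triv : Cfsg.IrrCharacter M := ⟨fun _ => (1 : ℂ), Cfsg.Agent.Lib.Helper24.S3282CT45.isIrr_one M⟩
  have hne' : triv ≠ lam := by
    intro e
    apply hnp
    rw [← e]
  have horth := Cfsg.Agent.Lib.Helper2.classInner_irrCharacter_ne hne'
  have hcard : (Nat.card M : ℂ) ≠ 0 := by
    have : 0 < Nat.card M := Nat.card_pos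
    exact_mod_cast this.ne'
  have hsum0 : ∑ m : M, conj ((lam : M → ℂ) m) = 0 := by
    unfold Cfsg.classInner at horth
    have h2 : ∑ m : M, (triv : M → ℂ) m * conj ((lam : M → ℂ) m) = 0 := by
      rcases mul_eq_zero.mp horth with h | h
      · exact absurd (inv_eq_zero.mp h) hcard
      · exact h
    simpa [triv] using h2
  have hθform : ∀ m : M, θ m = (if m = 1 then (Nat.card M : ℂ) else 0) - 1 := by
    intro m
    by_cases h : m = 1
    · subst h
      simp only [if_true]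
      rw [Subgroup.coe_one, hθ1]
    · rw [if_neg h, zero_sub]
      exact hθM m m.2 (fun e => h (Subtype.ext e))
  unfold Cfsg.classInner
  have hsum : ∑ m : M, θ m * conj ((lam : M → ℂ) m) = (Nat.card M : ℂ) := by
    have h1 : ∀ m : M, θ m * conj ((lam : M → ℂ) m) =
        (if m = 1 then (Nat.card M : ℂ) * conj ((lam : M → ℂ) m) else 0)
          - conj ((lam : M → ℂ) m) := by
      intro m
      rw [hθform m, sub_mul, one_mul]
      by_cases h : m = 1
      · rw [if_pos h, if_pos h]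
      · rw [if_neg h, if_neg h, zero_mul]
    rw [Finset.sum_congr rfl (fun m _ => h1 m), Finset.sum_sub_distrib, hsum0, sub_zero,
      Finset.sum_ite_eq' Finset.univ (1 : M), if_pos (Finset.mem_univ _), hl1, map_one, mul_one]
  rw [hsum, inv_mul_cancel₀ hcard]

end Helper13

/-- [N24] abstract: `|M| ≤ 4`. Every nonprincipal linear `lam` of `M` has `⟨θ|_M, lam⟩ = 1`; if `|M| > 4`, N23 gives two invariant ones, N22 two distinct linear constituents of `θ`, contradicting N21. -/
theorem card_le_four_abstract (hθ : Cfsg.IsCharacter S θ) (M : Subgroup S)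
    (hM : ∀ x ∈ M, ∀ y ∈ M, x * y = y * x) (hM2 : ∀ x ∈ M, x ^ 2 = 1) (hidx : M.index = 2)
    (hθ1 : θ 1 = (Nat.card M : ℂ) - 1) (hθM : ∀ x ∈ M, x ≠ 1 → θ x = -1)
    (hθu : ∀ s : S, s ≠ 1 → θ s * conj (θ s) = 1) : Nat.card M ≤ 4 := by
  classical
  by_contra hcon
  have hcard : 4 < Nat.card M := not_le.mp hcon
  have hMn : M.Normal := Subgroup.normal_of_index_eq_two hidx
  have : Fintype M := Fintype.ofFinite M
  obtain ⟨lam₁, lam₂, hne, hnp1, hnp2, hinv1, hinv2⟩ := exists_two_invariant M hM hM2 hidx hcard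
  have hMcomm : ∀ a b : M, a * b = b * a := fun a b => Subtype.ext (hM a a.2 b b.2)
  have hl1 : (lam₁ : M → ℂ) 1 = 1 :=
    Cfsg.Agent.Lib.Helper2.IsIrrCharacter.apply_one_of_comm hMcomm lam₁.2
  have hl2 : (lam₂ : M → ℂ) 1 = 1 :=
    Cfsg.Agent.Lib.Helper2.IsIrrCharacter.apply_one_of_comm hMcomm lam₂.2
  obtain ⟨ν₁, hν1, hc1, hr1⟩ := inv_linear_constituent hθ M lam₁ hl1 hinv1
    (Helper13.mult_eq_one_of_ne_one M hθ1 hθM lam₁ hl1 hnp1)
  obtain ⟨ν₂, hν2, hc2, hr2⟩ := inv_linear_constituent hθ M lam₂ hl2 hinv2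
    (Helper13.mult_eq_one_of_ne_one M hθ1 hθM lam₂ hl2 hnp2)
  have hνeq : ν₁ = ν₂ := lin_constituent_unique hθ M hM hidx hθ1 hθu ν₁ ν₂ hν1 hν2 hc1 hc2
  apply hne
  apply Subtype.ext
  rw [← hr1, ← hr2, hνeq]

end Cfsg.Agent.Lib.Helper24.RU
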