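import Mathlib
import Cfsg.Prelude.Def_Characters
import Cfsg.Prelude.Def_Solvable
import Cfsg.Prelude.Def_Transfer
import Cfsg.Agent.Lib.Helper24.RU.Defs
import Cfsg.Agent.Lib.Helper11.Clifford
import Cfsg.Agent.Lib.Helper24.RU.N24
import Cfsg.Agent.Lib.Helper24.RU.N05
import Cfsg.Agent.Lib.Helper24.RU.N06
import Cfsg.Agent.Lib.Helper24.RU.N17
import Cfsg.Agent.Lib.Helper24.RU.N01

/-!
# S4751 farm, leaf N25 (architect helper24)

Keep the name, namespace and statement of `card_le_four` exactly; replace only the `sorry`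
(auxiliary lemmas with fresh names may be added above it in this file).
-/

set_option autoImplicit false

namespace Cfsg.Agent.Lib.Helper24.RU

open scoped ComplexConjugate

variable {G : Type*} [Group G] [Finite G] {χ : G → ℂ}

/-- [N25] bridge: apply N24 to the type `↥S`, `M = A.subgroupOf S`, `θ = χ|_S` (`S` is a `2`-group since `|S| = 2 |A|`; N05, N06, N17). -/
theorem card_le_four (h : Hyp 2 χ) {A : Subgroup G} (hA : ANP 2 A) (S : Subgroup G)
    (hAS : A ≤ S) (hS : Nat.card S = 2 * Nat.card A) : Nat.card A ≤ 4 := by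
  classical
  have : Fintype G := Fintype.ofFinite G
  have : Fintype S := Fintype.ofFinite S
  have hχ : Cfsg.IsCharacter G χ := Cfsg.Agent.Lib.Helper2.IsIrrCharacter.isCharacter h.irr
  have hcardM : Nat.card (A.subgroupOf S) = Nat.card A :=
    Nat.card_congr (Subgroup.subgroupOfEquivOfLe hAS).toEquiv
  -- `S` is a 2-group
  obtain ⟨k, hk⟩ := hA.pgroup.exists_card_eq
  have hScard : Nat.card S = 2 ^ (k + 1) := by rw [hS, hk, pow_succ]; ring
  have hroot : ∀ s : S, s ≠ 1 → χ s * conj (χ s) = 1 := by
    intro s hs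
    have hsG : (s : G) ≠ 1 := fun h1 => hs (Subtype.ext h1)
    have hpow : (s : G) ^ 2 ^ (k + 1) = 1 := by
      have h1 : s ^ Nat.card S = 1 := pow_card_eq_one'
      rw [hScard] at h1
      have := congrArg Subtype.val h1
      simpa using this
    have h2 : orderOf (s : G) ∣ 2 ^ (k + 1) := orderOf_dvd_of_pow_eq_one hpow
    obtain ⟨j, -, hj2⟩ := (Nat.dvd_prime_pow Nat.prime_two).1 h2
    have hdvd : 2 ∣ orderOf (s : G) := by
      rcases Nat.eq_zero_or_pos j with rfl | hjpos
      · exfalso
        apply hsG
        rw [pow_zero] at hj2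
        exact orderOf_eq_one_iff.1 hj2
      · rw [hj2]
        exact dvd_pow_self 2 hjpos.ne'
    obtain ⟨m, hm, hm1⟩ := h.root (s : G) hdvd
    exact Helper6.mul_conj_eq_one_of_pow hm hm1
  have key := card_le_four_abstract (S := S) (θ := fun s : S => χ s)
    (Cfsg.Agent.Lib.Helper2.IsCharacter.restrict hχ S) (A.subgroupOf S)
    (by
      intro x hx y hy
      apply Subtype.ext
      simpa using hA.comm x hx y hy)
    (by
      intro x hx
      apply Subtype.ext
      have := exp_p h hA x hx
      simpa using this)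
    (by
      have h1 : (A.subgroupOf S).index * Nat.card (A.subgroupOf S) = Nat.card S := by
        rw [mul_comm]; exact Subgroup.card_mul_index _
      rw [hcardM, hS] at h1
      have hpos : 0 < Nat.card A := Nat.card_pos
      exact Nat.eq_of_mul_eq_mul_right hpos h1)
    (by
      rw [hcardM]
      simpa using deg_eq h hA)
    (by
      intro x hx hx1
      have hxG : (x : G) ≠ 1 := fun h1 => hx1 (Subtype.ext h1)
      exact val_neg_one h hA hx hxG)
    hroot
  rw [hcardM] at key
  exact key

end Cfsg.Agent.Lib.Helper24.RU
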