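import Mathlib
import Cfsg.Prelude.Def_Characters
import Cfsg.Prelude.Def_Solvable
import Cfsg.Prelude.Def_Transfer
import Cfsg.Agent.Lib.Helper24.RU.Defs
import Cfsg.Agent.Lib.Helper11.Clifford
import Cfsg.Agent.Lib.Helper24.RU.N07
import Cfsg.Agent.Lib.Helper24.RU.N12
import Cfsg.Agent.Lib.Helper24.RU.N15
import Cfsg.Agent.Lib.Helper24.RU.N16
import Cfsg.Agent.Lib.Helper24.RU.N17

/-!
# S4751 farm, leaf N27 (architect helper24)

Keep the name, namespace and statement of `card_G` exactly; replace only the `sorry`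
(auxiliary lemmas with fresh names may be added above it in this file).
-/

set_option autoImplicit false

namespace Cfsg.Agent.Lib.Helper24.RU

open scoped ComplexConjugate

variable {G : Type*} [Group G] [Finite G] {χ : G → ℂ}

namespace Helper20

/-- the index of `K` is the number of values of a function whose fibres are the left cosets of `K` -/
theorem index_eq_ncard_range {G β : Type*} [Group G] (K : Subgroup G) (F : G → β)
    (hF : ∀ g g' : G, F g = F g' ↔ g⁻¹ * g' ∈ K) : K.index = (Set.range F).ncard := by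
  let f : G ⧸ K → Set.range F :=
    Quotient.lift (fun g => (⟨F g, g, rfl⟩ : Set.range F))
      (fun g g' h => Subtype.ext ((hF g g').mpr (QuotientGroup.leftRel_apply.mp h)))
  have hbij : Function.Bijective f := by
    constructor
    · intro q q'
      induction q using QuotientGroup.induction_on with
      | H g =>
        induction q' using QuotientGroup.induction_on with
        | H g' =>
          intro h
          have h' : F g = F g' := congrArg Subtype.val h
          exact QuotientGroup.eq.mpr ((hF g g').mp h')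
    · rintro ⟨_, g, rfl⟩
      exact ⟨(g : G ⧸ K), rfl⟩
  have := Nat.card_congr (Equiv.ofBijective f hbij)
  rw [Subgroup.index, this, Nat.card_coe_set_eq]

/-- a group of order four and exponent two, listed from two distinct nonidentity elements -/
theorem klein_list {G : Type*} [Group G] {A : Subgroup G} (hA4 : Nat.card A = 4)
    (hA2 : ∀ x ∈ A, x ^ 2 = 1) {a x : G} (ha : a ∈ A) (hx : x ∈ A) (ha1 : a ≠ 1) (hx1 : x ≠ 1)
    (hax : a ≠ x) : ∀ z ∈ A, z = 1 ∨ z = a ∨ z = x ∨ z = a * x := by
  classical
  have _i1 : Finite A := Nat.finite_of_card_ne_zero (by rw [hA4]; norm_num)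
  have _i2 : Fintype A := Fintype.ofFinite A
  have _i3 : IsKleinFour A := by
    refine ⟨hA4, ?_⟩
    have h1 : Monoid.exponent A ∣ 2 := by
      apply Monoid.exponent_dvd_of_forall_pow_eq_one
      intro g
      exact Subtype.ext (by simpa using hA2 g g.2)
    rcases (Nat.dvd_prime Nat.prime_two).mp h1 with h | h
    · exfalso
      rw [Monoid.exp_eq_one_iff] at h
      have : Nat.card A ≤ 1 := Finite.card_le_one_iff_subsingleton.mpr h
      omega
    · exact h
  have huniv := IsKleinFour.eq_finset_univ (G := A) (x := ⟨a, ha⟩) (y := ⟨x, hx⟩)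
    (by intro h; exact ha1 (congrArg Subtype.val h))
    (by intro h; exact hx1 (congrArg Subtype.val h))
    (by intro h; exact hax (congrArg Subtype.val h))
  intro z hz
  have hzmem : (⟨z, hz⟩ : A) ∈ (Finset.univ : Finset A) := Finset.mem_univ _
  rw [← huniv] at hzmem
  simp only [Finset.mem_insert, Finset.mem_singleton, Subtype.ext_iff, Subgroup.coe_mul,
    Subgroup.coe_one] at hzmem
  tauto


/-- conjugation bookkeeping -/
theorem conj_eq_iff_comm {G : Type*} [Group G] (g g' a : G) :
    g * a * g⁻¹ = g' * a * g'⁻¹ ↔ a * (g⁻¹ * g') = (g⁻¹ * g') * a := by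
  constructor
  · intro h
    have : a = g⁻¹ * (g' * a * g'⁻¹) * g := by rw [← h]; group
    calc a * (g⁻¹ * g') = (g⁻¹ * (g' * a * g'⁻¹) * g) * (g⁻¹ * g') := by rw [← this]
      _ = (g⁻¹ * g') * a := by group
  · intro h
    have h2 : g' = g * (g⁻¹ * g') := by group
    rw [h2]
    set k := g⁻¹ * g' with hk
    calc g * a * g⁻¹ = g * (a * k) * k⁻¹ * g⁻¹ := by group
      _ = g * (k * a) * k⁻¹ * g⁻¹ := by rw [h]
      _ = g * k * a * (g * k)⁻¹ := by group

theorem conj_ne_one {G : Type*} [Group G] {a : G} (ha1 : a ≠ 1) (g : G) : g * a * g⁻¹ ≠ 1 := by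
  intro h
  apply ha1
  have : a = g⁻¹ * (g * a * g⁻¹) * g := by group
  rw [this, h]; group

theorem conj_ne_conj {G : Type*} [Group G] {a x : G} (hax : a ≠ x) (g : G) :
    g * a * g⁻¹ ≠ g * x * g⁻¹ := by
  intro h
  apply hax
  have : a = g⁻¹ * (g * a * g⁻¹) * g := by group
  rw [this, h]; group

theorem conj_mul_conj {G : Type*} [Group G] (a x g : G) :
    g * (a * x) * g⁻¹ = (g * a * g⁻¹) * (g * x * g⁻¹) := by group

/-- `|G : C_G(A)| ≤ 6` for a normal four-group `A = {1, a, x, a x}`. -/
theorem index_le_six {G : Type*} [Group G] {A : Subgroup G} (hAn : A.Normal)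
    {a x : G} (ha : a ∈ A) (hx : x ∈ A) (ha1 : a ≠ 1) (hx1 : x ≠ 1) (hax : a ≠ x)
    (hlist : ∀ z ∈ A, z = 1 ∨ z = a ∨ z = x ∨ z = a * x) (hcomm : a * x = x * a) :
    (Subgroup.centralizer (A : Set G)).index ≤ 6 := by
  classical
  have hrange := index_eq_ncard_range (Subgroup.centralizer (A : Set G))
    (fun g : G => (g * a * g⁻¹, g * x * g⁻¹)) ?_
  · rw [hrange]
    set T : Finset (G × G) :=
      {(a, x), (a, a * x), (x, a), (x, a * x), (a * x, a), (a * x, x)} with hT
    have hsub : Set.range (fun g : G => (g * a * g⁻¹, g * x * g⁻¹)) ⊆ (T : Set (G × G)) := by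
      rintro _ ⟨g, rfl⟩
      have h1 := hlist _ (hAn.conj_mem a ha g)
      have h2 := hlist _ (hAn.conj_mem x hx g)
      have n1 := conj_ne_one ha1 g
      have n2 := conj_ne_one hx1 g
      have n3 := conj_ne_conj hax g
      simp only [hT, Finset.coe_insert, Finset.coe_singleton, Set.mem_insert_iff,
        Set.mem_singleton_iff, Prod.mk.injEq]
      rcases h1 with h1 | h1 | h1 | h1 <;> rcases h2 with h2 | h2 | h2 | h2 <;>
        first
          | exact absurd h1 n1
          | exact absurd h2 n2
          | exact absurd (h1.trans h2.symm) n3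
          | (rw [h1, h2]; tauto)
    calc (Set.range (fun g : G => (g * a * g⁻¹, g * x * g⁻¹))).ncard
        ≤ (T : Set (G × G)).ncard := Set.ncard_le_ncard hsub (Finset.finite_toSet T)
      _ = T.card := Set.ncard_coe_finset T
      _ ≤ 6 := Finset.card_le_six
  · intro g g'
    simp only [Prod.mk.injEq]
    rw [conj_eq_iff_comm, conj_eq_iff_comm, Subgroup.mem_centralizer_iff]
    constructor
    · rintro ⟨e1, e2⟩ z hz
      rcases hlist z hz with rfl | rfl | rfl | rfl
      · simp
      · exact e1
      · exact e2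
      · rw [mul_assoc, e2, ← mul_assoc, e1, mul_assoc]
    · intro hall
      exact ⟨hall a ha, hall x hx⟩

/-- `3 ∣ |G : C_G(A)|` for a normal four-group `A = {1, a, x, a x}` with `x` conjugate to `a`
and `a x` not central. -/
theorem three_dvd_index {G : Type*} [Group G] {A : Subgroup G} (hAn : A.Normal)
    {a x : G} (ha : a ∈ A) (hx : x ∈ A) (ha1 : a ≠ 1) (hx1 : x ≠ 1) (hax : a ≠ x)
    (hlist : ∀ z ∈ A, z = 1 ∨ z = a ∨ z = x ∨ z = a * x) (hcomm : a * x = x * a)
    (hy1 : a * x ≠ 1) (hya : a * x ≠ a) (hyx : a * x ≠ x)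
    (g : G) (hg : g * a * g⁻¹ = x) (hyZ : a * x ∉ Subgroup.center G) :
    3 ∣ (Subgroup.centralizer (A : Set G)).index := by
  classical
  -- some conjugate of `a` is `a * x`
  have hconj : ∃ k : G, k * a * k⁻¹ = a * x := by
    obtain ⟨k, hk⟩ : ∃ k : G, k * (a * x) * k⁻¹ ≠ a * x := by
      by_contra hcon
      push Not at hcon
      apply hyZ
      rw [Subgroup.mem_center_iff]
      intro k
      have := hcon k
      calc k * (a * x) = (k * (a * x) * k⁻¹) * k := by group
        _ = a * x * k := by rw [this]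
    rw [conj_mul_conj] at hk
    have h1 := hlist _ (hAn.conj_mem a ha k)
    have h2 := hlist _ (hAn.conj_mem x hx k)
    have n1 := conj_ne_one ha1 k
    have n2 := conj_ne_one hx1 k
    have n3 := conj_ne_conj hax k
    rcases h1 with h1 | h1 | h1 | h1
    · exact absurd h1 n1
    · rcases h2 with h2 | h2 | h2 | h2
      · exact absurd h2 n2
      · exact absurd (h1.trans h2.symm) n3
      · exact absurd (by rw [h1, h2]) hk
      · refine ⟨k * g, ?_⟩
        rw [← h2, ← hg]; group
    · rcases h2 with h2 | h2 | h2 | h2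
      · exact absurd h2 n2
      · exact absurd (by rw [h1, h2, hcomm]) hk
      · exact absurd (h1.trans h2.symm) n3
      · refine ⟨k * g, ?_⟩
        rw [← h2, ← hg]; group
    · exact ⟨k, h1⟩
  obtain ⟨k, hk⟩ := hconj
  have hrange := index_eq_ncard_range (Subgroup.centralizer ({a} : Set G))
    (fun g : G => g * a * g⁻¹) ?_
  · have hle : Subgroup.centralizer (A : Set G) ≤ Subgroup.centralizer ({a} : Set G) :=
      Subgroup.centralizer_le (by simpa using ha)
    have hR : Set.range (fun g : G => g * a * g⁻¹) = {a, x, a * x} := by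
      ext z
      simp only [Set.mem_range, Set.mem_insert_iff, Set.mem_singleton_iff]
      constructor
      · rintro ⟨t, rfl⟩
        rcases hlist _ (hAn.conj_mem a ha t) with h1 | h1 | h1 | h1
        · exact absurd h1 (conj_ne_one ha1 t)
        · exact Or.inl h1
        · exact Or.inr (Or.inl h1)
        · exact Or.inr (Or.inr h1)
      · rintro (rfl | rfl | rfl)
        · exact ⟨1, by group⟩
        · exact ⟨g, hg⟩
        · exact ⟨k, hk⟩
    have h3 : (Subgroup.centralizer ({a} : Set G)).index = 3 := by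
      rw [hrange, hR]
      exact Set.ncard_eq_three.mpr ⟨a, x, a * x, hax, fun e => hya e.symm, fun e => hyx e.symm, rfl⟩
    rw [← h3]
    exact Subgroup.index_dvd_of_le hle
  · intro t t'
    rw [conj_eq_iff_comm, Subgroup.mem_centralizer_iff]
    constructor
    · intro e z hz
      rw [Set.mem_singleton_iff] at hz
      subst hz
      exact e
    · intro hall
      exact hall a rfl

/-- `2 ∣ |G : C|` when `C` is normal and meets a subgroup `S` of order `8` in a subgroup of order
`4`. -/
theorem two_dvd_index {G : Type*} [Group G] [Finite G] {A S C : Subgroup G} [C.Normal]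
    (hA4 : Nat.card A = 4) (hS : Nat.card S = 8) (hAS : A ≤ S) (hSC : C ⊓ S = A) :
    2 ∣ C.index := by
  have h1 : C.relIndex S ∣ C.index := Subgroup.relIndex_dvd_index_of_normal C S
  have h2 : C.relIndex S = A.relIndex S := by
    rw [← Subgroup.inf_relIndex_right, hSC]
  have h3 : (⊥ : Subgroup G).relIndex A * A.relIndex S = (⊥ : Subgroup G).relIndex S :=
    Subgroup.relIndex_mul_relIndex _ _ _ bot_le hAS
  rw [Subgroup.relIndex_bot_left, Subgroup.relIndex_bot_left, hA4, hS] at h3
  have h4 : A.relIndex S = 2 := by omega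
  rw [h2, h4] at h1
  exact h1

/-- `|A ⊔ Z| = |A| |Z|` when `Z` is normal and `A ⊓ Z = ⊥`. -/
theorem card_sup_of_inf_bot {G : Type*} [Group G] {A Z : Subgroup G} [Z.Normal]
    (hAZ : A ⊓ Z = ⊥) : Nat.card ↥(A ⊔ Z) = Nat.card A * Nat.card Z := by
  have h3 : (⊥ : Subgroup G).relIndex Z * Z.relIndex (A ⊔ Z) = (⊥ : Subgroup G).relIndex (A ⊔ Z) :=
    Subgroup.relIndex_mul_relIndex _ _ _ bot_le le_sup_right
  have h4 : Z.relIndex (A ⊔ Z) = Nat.card A := by
    rw [Subgroup.relIndex_sup_right, ← Subgroup.inf_relIndex_right, inf_comm, hAZ,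
      Subgroup.relIndex_bot_left]
  rw [Subgroup.relIndex_bot_left, Subgroup.relIndex_bot_left, h4] at h3
  rw [← h3, mul_comm]

end Helper20

/-- [N27] `|G| = 24 |Z(G)|`: `C = C_G(A) = A × Z(G)` has order `4 |Z(G)|`; `G / C` acts faithfully on the three nonidentity elements of `A`, so `|G : C|` divides `6`; `3 ∣ |G : C|` by N07 (orbit of size three), `2 ∣ |G : C|` since `S ⊓ C = A` (N12). -/
theorem card_G (h : Hyp 2 χ) {A : Subgroup G} (hA : ANP 2 A) (hA4 : Nat.card A = 4)
    (S : Subgroup G) (hAS : A ≤ S) (hS : Nat.card S = 8) :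
    Nat.card G = 24 * Nat.card ↥(Subgroup.center G) := by
  classical
  have hAn := hA.normal
  have hA2 : ∀ x ∈ A, x ^ 2 = 1 := exp_p h hA
  have hCen := centralizer_eq h hA
  have hInf := inf_center h hA
  have hnotZ : ∀ z ∈ A, z ≠ 1 → z ∉ Subgroup.center G := by
    intro z hz hz1 hzZ
    have : z ∈ A ⊓ Subgroup.center G := ⟨hz, hzZ⟩
    rw [hInf] at this
    exact hz1 (Subgroup.mem_bot.mp this)
  obtain ⟨a, ha, ha1⟩ : ∃ a ∈ A, a ≠ 1 := by
    by_contra hcon
    push Not at hcon
    exact hA.ne_bot ((Subgroup.eq_bot_iff_forall _).mpr hcon)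
  obtain ⟨g, hg⟩ : ∃ g : G, g * a * g⁻¹ ≠ a := by
    by_contra hcon
    push Not at hcon
    apply hnotZ a ha ha1
    rw [Subgroup.mem_center_iff]
    intro k
    have := hcon k
    calc k * a = (k * a * k⁻¹) * k := by group
      _ = a * k := by rw [this]
  obtain ⟨x, hxdef⟩ : ∃ x : G, g * a * g⁻¹ = x := ⟨_, rfl⟩
  have hx : x ∈ A := hxdef ▸ hAn.conj_mem a ha g
  have hx1 : x ≠ 1 := hxdef ▸ Helper20.conj_ne_one ha1 g
  have hax : a ≠ x := fun e => hg (hxdef.trans e.symm)
  have hlist := Helper20.klein_list hA4 hA2 ha hx ha1 hx1 hax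
  have hcomm : a * x = x * a := hA.comm a ha x hx
  have haa : a * a = 1 := by rw [← pow_two]; exact hA2 a ha
  have hxx : x * x = 1 := by rw [← pow_two]; exact hA2 x hx
  have hy1 : a * x ≠ 1 := by
    intro e
    apply hax
    calc a = a * (x * x) := by rw [hxx, mul_one]
      _ = (a * x) * x := by rw [mul_assoc]
      _ = x := by rw [e, one_mul]
  have hya : a * x ≠ a := by
    intro e
    apply hx1
    calc x = (a * a) * x := by rw [haa, one_mul]
      _ = a * (a * x) := by rw [mul_assoc]
      _ = 1 := by rw [e, haa]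
  have hyx : a * x ≠ x := by
    intro e
    apply ha1
    calc a = a * (x * x) := by rw [hxx, mul_one]
      _ = (a * x) * x := by rw [mul_assoc]
      _ = 1 := by rw [e, hxx]
  have hyZ : a * x ∉ Subgroup.center G := hnotZ _ (A.mul_mem ha hx) hy1
  -- the three index facts
  have hle6 := Helper20.index_le_six hAn ha hx ha1 hx1 hax hlist hcomm
  have h3 := Helper20.three_dvd_index hAn ha hx ha1 hx1 hax hlist hcomm hy1 hya hyx g hxdef hyZ
  have hCn : (Subgroup.centralizer (A : Set G)).Normal := Subgroup.normal_centralizer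
  have hSC : Subgroup.centralizer (A : Set G) ⊓ S = A := by
    apply le_antisymm
    · rintro s ⟨hsC, hsS⟩
      have hSp : IsPGroup 2 S := IsPGroup.of_card (n := 3) (by rw [hS]; norm_num)
      obtain ⟨k, hk⟩ := (IsPGroup.iff_orderOf.mp hSp) ⟨s, hsS⟩
      have hk' : orderOf s = 2 ^ k := by
        rw [← hk]; exact (Subgroup.orderOf_mk s hsS).symm
      exact pElement_mem h hA hsC ⟨k, hk'⟩
    · intro s hs
      have hsC : s ∈ Subgroup.centralizer (A : Set G) := by
        rw [Subgroup.mem_centralizer_iff]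
        intro z hz
        exact hA.comm z hz s hs
      exact ⟨hsC, hAS hs⟩
  have h2 := Helper20.two_dvd_index hA4 hS hAS hSC
  have h6 : (Subgroup.centralizer (A : Set G)).index = 6 := by
    have hdvd : 6 ∣ (Subgroup.centralizer (A : Set G)).index :=
      Nat.Coprime.mul_dvd_of_dvd_of_dvd (by norm_num : Nat.Coprime 2 3) h2 h3
    have hne : (Subgroup.centralizer (A : Set G)).index ≠ 0 := Subgroup.index_ne_zero_of_finite
    obtain ⟨m, hm⟩ := hdvd
    rw [hm] at hle6 hne ⊢
    have : m = 1 := by
      rcases m with _ | _ | m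
      · simp at hne
      · rfl
      · omega
    rw [this]
  have hcardC : Nat.card ↥(Subgroup.centralizer (A : Set G)) =
      4 * Nat.card ↥(Subgroup.center G) := by
    rw [hCen, Helper20.card_sup_of_inf_bot hInf, hA4]
  have := Subgroup.card_mul_index (Subgroup.centralizer (A : Set G))
  rw [h6, hcardC] at this
  rw [← this]
  ring

end Cfsg.Agent.Lib.Helper24.RU
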