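import Mathlib
import Cfsg.Prelude.Def_Characters
import Cfsg.Prelude.Def_Solvable
import Cfsg.Prelude.Def_Transfer
import Cfsg.Agent.Lib.Helper24.RU.Defs
import Cfsg.Agent.Lib.Helper11.Clifford
import Cfsg.Agent.Lib.Helper27.RU28a

/-!
# S4751 farm, leaf N28a (architect helper24)

Keep the name, namespace and statement of `exists_s3` exactly; replace only the `sorry`
(auxiliary lemmas with fresh names may be added above it in this file).
-/

set_option autoImplicit false

namespace Cfsg.Agent.Lib.Helper24.RU

open scoped ComplexConjugate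

/-- [N28a] abstract: a central extension `X` of a nonabelian group of order six by a central subgroup `Y` of odd order contains a subgroup `K` of order six with `K ⊓ Y = ⊥`. (An involution `u` of `X` is not central; `r = u * (g u g⁻¹) ≠ 1` is inverted by `u`, `r³ ∈ Y` is central and inverted, so `r³ = 1`; `K = ⟨r, u⟩` has trivial centre.) -/
theorem exists_s3 {X : Type*} [Group X] [Finite X] (Y : Subgroup X)
    (hY : Y ≤ Subgroup.center X) (hodd : Odd (Nat.card Y)) (hX : Nat.card X = 6 * Nat.card Y)
    (hnab : ∃ a b : X, a * b * a⁻¹ * b⁻¹ ∉ Y) :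
    ∃ K : Subgroup X, Nat.card K = 6 ∧ K ⊓ Y = ⊥ := by
  exact Cfsg.Agent.Lib.Helper27.RU28a.exists_s3' Y hY hodd hX hnab

end Cfsg.Agent.Lib.Helper24.RU
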