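import Mathlib
import Cfsg.Prelude.Def_Characters
import Cfsg.Prelude.Def_Solvable
import Cfsg.Prelude.Def_Transfer
import Cfsg.Agent.Lib.Helper24.RU.Defs
import Cfsg.Agent.Lib.Helper11.Clifford

/-!
# S4751 farm, leaf N28c (architect helper24)

Keep the name, namespace and statement of `exists_comm_not_mem` exactly; replace only the `sorry`
(auxiliary lemmas with fresh names may be added above it in this file).
-/

set_option autoImplicit false

namespace Cfsg.Agent.Lib.Helper24.RU

open scoped ComplexConjugate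

namespace Helper8N28c

/-- A permutation of four points with a fixed point and sixth power one has square or cube one. -/
theorem perm4_aux : ∀ τ : Equiv.Perm (Fin 4), ∀ i : Fin 4, τ i = i → τ ^ 6 = 1 →
    (τ ^ 2 = 1 ∨ τ ^ 3 = 1) := by
  decide +kernel

/-- No permutation of a four-element type with a fixed point has order six. -/
theorem perm_card4_aux {α : Type*} (hα : Nat.card α = 4) (σ : Equiv.Perm α) (a : α)
    (ha : σ a = a) : orderOf σ ≠ 6 := by
  intro h6
  haveI : Finite α := Nat.finite_of_card_ne_zero (by rw [hα]; norm_num)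
  have e : α ≃ Fin 4 := Finite.equivFinOfCardEq hα
  let E : Equiv.Perm α ≃* Equiv.Perm (Fin 4) := e.permCongrHom
  have hτ : orderOf (E σ) = 6 := by rw [MulEquiv.orderOf_eq]; exact h6
  have hfix : (E σ) (e a) = e a := by
    simp [E, Equiv.permCongrHom, ha]
  have h66 : (E σ) ^ 6 = 1 := by rw [← hτ]; exact pow_orderOf_eq_one _
  rcases perm4_aux (E σ) (e a) hfix h66 with h | h
  · have := orderOf_dvd_of_pow_eq_one h
    rw [hτ] at this; omega
  · have := orderOf_dvd_of_pow_eq_one h
    rw [hτ] at this; omega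

end Helper8N28c

variable {G : Type*} [Group G] [Finite G]

/-- [N28c] `G / C_G(A)` is nonabelian when it has order six and `A` is a four-group: it acts faithfully on the three nonidentity elements of `A`, and `Perm` of three points has no element of order six. -/
theorem exists_comm_not_mem (A : Subgroup G) [A.Normal] (hA4 : Nat.card A = 4)
    (hA2 : ∀ x ∈ A, x ^ 2 = 1)
    (hidx : (Subgroup.centralizer (A : Set G)).index = 6) :
    ∃ a b : G, a * b * a⁻¹ * b⁻¹ ∉ Subgroup.centralizer (A : Set G) := by
  classical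
  by_contra hcon
  push Not at hcon
  let ρ : G →* Equiv.Perm A := (MulAut.toPerm A).comp (MulAut.conjNormal (H := A))
  have hρ : ∀ (g : G) (a : A), ((ρ g a : A) : G) = g * a * g⁻¹ := by
    intro g a; rfl
  have hker : ρ.ker = Subgroup.centralizer (A : Set G) := by
    ext g
    rw [MonoidHom.mem_ker, Subgroup.mem_centralizer_iff]
    constructor
    · intro h a ha
      have h1 := hρ g ⟨a, ha⟩
      rw [h] at h1
      simp only [Equiv.Perm.coe_one, id_eq] at h1
      calc a * g = (g * a * g⁻¹) * g := by rw [← h1]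
        _ = g * a := by group
    · intro h
      ext a
      rw [hρ]
      have := h a a.2
      simp only [Equiv.Perm.coe_one, id_eq]
      rw [← this]; group
  have hcard : Nat.card ρ.range = 6 := by
    rw [← Subgroup.index_ker, hker, hidx]
  have hcomm : ∀ s t : ρ.range, Commute s t := by
    rintro ⟨s, a, rfl⟩ ⟨t, b, rfl⟩
    have h1 : a * b * a⁻¹ * b⁻¹ ∈ ρ.ker := by rw [hker]; exact hcon a b
    rw [MonoidHom.mem_ker] at h1
    apply Subtype.ext
    show ρ a * ρ b = ρ b * ρ a
    have h2 : ρ a * ρ b * (ρ a)⁻¹ * (ρ b)⁻¹ = 1 := by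
      rw [← h1]; simp
    calc ρ a * ρ b = (ρ a * ρ b * (ρ a)⁻¹ * (ρ b)⁻¹) * (ρ b * ρ a) := by group
      _ = ρ b * ρ a := by rw [h2, one_mul]
  have : Fact (Nat.Prime 2) := ⟨Nat.prime_two⟩
  have : Fact (Nat.Prime 3) := ⟨Nat.prime_three⟩
  obtain ⟨s, hs⟩ := exists_prime_orderOf_dvd_card' (G := ρ.range) 2 (by rw [hcard]; norm_num)
  obtain ⟨t, ht⟩ := exists_prime_orderOf_dvd_card' (G := ρ.range) 3 (by rw [hcard]; norm_num)
  have hst : orderOf (s * t) = 6 := by
    rw [(hcomm s t).orderOf_mul_eq_mul_orderOf_of_coprime (by rw [hs, ht]; norm_num), hs, ht]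
  have hst' : orderOf ((s * t : ρ.range) : Equiv.Perm A) = 6 := by
    rw [Subgroup.orderOf_coe]; exact hst
  obtain ⟨g, hg⟩ := (s * t).2
  have hfix : ((s * t : ρ.range) : Equiv.Perm A) 1 = 1 := by
    rw [← hg]
    apply Subtype.ext
    rw [hρ]; simp
  exact Helper8N28c.perm_card4_aux hA4 _ 1 hfix hst'

end Cfsg.Agent.Lib.Helper24.RU
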