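import Mathlib
import Cfsg.Prelude.Def_Characters
import Cfsg.Prelude.Def_Solvable
import Cfsg.Prelude.Def_Transfer
import Cfsg.Agent.Lib.Helper24.RU.Defs
import Cfsg.Agent.Lib.Helper11.Clifford
import Cfsg.Agent.Lib.Helper24.RU.N28a
import Cfsg.Agent.Lib.Helper24.RU.N28c

/-!
# S4751 farm, leaf N28 (architect helper24)

Keep the name, namespace and statement of `exists_complement` exactly; replace only the `sorry`
(auxiliary lemmas with fresh names may be added above it in this file).
-/

set_option autoImplicit false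

namespace Cfsg.Agent.Lib.Helper24.RU

open scoped ComplexConjugate

variable {G : Type*} [Group G] [Finite G]

/-- [N28] a complement to the centre containing `A`: apply N28a to `X = G ⧸ A`, `Y` the image of `Z(G)` (nonabelian quotient by N28c), and pull `K` back to `G`. -/
theorem exists_complement (A : Subgroup G) [A.Normal] (hA4 : Nat.card A = 4)
    (hA2 : ∀ x ∈ A, x ^ 2 = 1)
    (hC : Subgroup.centralizer (A : Set G) = A ⊔ Subgroup.center G)
    (hAZ : A ⊓ Subgroup.center G = ⊥) (hodd : Odd (Nat.card ↥(Subgroup.center G)))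
    (hG : Nat.card G = 24 * Nat.card ↥(Subgroup.center G)) :
    ∃ H : Subgroup G, A ≤ H ∧ Nat.card H = 24 ∧ H ⊓ Subgroup.center G = ⊥ := by
  classical
  set mk : G →* G ⧸ A := QuotientGroup.mk' A with hmk
  have hsurj : Function.Surjective mk := QuotientGroup.mk'_surjective A
  have hker : mk.ker = A := QuotientGroup.ker_mk' A
  set Y : Subgroup (G ⧸ A) := (Subgroup.center G).map mk with hYdef
  -- `Y` is central
  have hYc : Y ≤ Subgroup.center (G ⧸ A) := by
    rintro _ ⟨z, hz, rfl⟩
    rw [Subgroup.mem_center_iff]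
    intro x
    obtain ⟨g, rfl⟩ := hsurj x
    rw [← map_mul, ← map_mul, (Subgroup.mem_center_iff.mp hz) g]
  -- `|Y| = |Z(G)|`
  have hinj : Function.Injective (mk.comp (Subgroup.center G).subtype) := by
    rw [injective_iff_map_eq_one]
    rintro ⟨z, hz⟩ h1
    have hzA : z ∈ A := by
      rw [← hker]
      exact h1
    have : z ∈ A ⊓ Subgroup.center G := ⟨hzA, hz⟩
    rw [hAZ, Subgroup.mem_bot] at this
    exact Subtype.ext this
  have hYcard : Nat.card Y = Nat.card ↥(Subgroup.center G) := by
    have hr : (mk.comp (Subgroup.center G).subtype).range = Y := by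
      rw [MonoidHom.range_comp, Subgroup.range_subtype]
    rw [← hr]
    exact (Nat.card_congr (MonoidHom.ofInjective hinj).toEquiv).symm
  have hXcard : Nat.card (G ⧸ A) = 6 * Nat.card Y := by
    have h1 := Subgroup.card_eq_card_quotient_mul_card_subgroup A
    rw [hG, hA4] at h1
    rw [hYcard]
    omega
  have hYodd : Odd (Nat.card Y) := by rw [hYcard]; exact hodd
  -- the centralizer of `A` is the full preimage of `Y`
  have hCY : Subgroup.centralizer (A : Set G) = Y.comap mk := by
    rw [hC, hYdef, Subgroup.comap_map_eq, hker, sup_comm]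
  have hidx : (Subgroup.centralizer (A : Set G)).index = 6 := by
    rw [hCY, Subgroup.index_comap_of_surjective _ hsurj]
    have h2 := Subgroup.card_mul_index Y
    rw [hXcard] at h2
    have hYpos : 0 < Nat.card Y := Nat.card_pos
    exact Nat.eq_of_mul_eq_mul_left hYpos (by rw [h2]; ring)
  obtain ⟨a, b, hab⟩ := exists_comm_not_mem A hA4 hA2 hidx
  have hnab : ∃ a b : G ⧸ A, a * b * a⁻¹ * b⁻¹ ∉ Y := by
    refine ⟨mk a, mk b, fun hmem => hab ?_⟩
    rw [hCY, Subgroup.mem_comap]
    simpa only [map_mul, map_inv] using hmem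
  obtain ⟨K, hK6, hKY⟩ := exists_s3 Y hYc hYodd hXcard hnab
  refine ⟨K.comap mk, ?_, ?_, ?_⟩
  · have hle := MonoidHom.ker_le_comap mk K
    rw [hker] at hle
    exact hle
  · have h1 := Subgroup.card_mul_index (K.comap mk)
    rw [Subgroup.index_comap_of_surjective _ hsurj] at h1
    have h2 := Subgroup.card_mul_index K
    have h3 := Subgroup.card_eq_card_quotient_mul_card_subgroup A
    rw [hA4] at h3
    rw [hK6] at h2
    have hidxpos : 0 < K.index := Nat.pos_of_ne_zero Subgroup.index_ne_zero_of_finite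
    have h4 : Nat.card ↥(K.comap mk) * K.index = 24 * K.index := by
      rw [h1, h3, ← h2]; ring
    exact Nat.eq_of_mul_eq_mul_right hidxpos h4
  · rw [eq_bot_iff]
    rintro h ⟨hH, hZ⟩
    have hK : mk h ∈ K := hH
    have hY : mk h ∈ Y := ⟨h, hZ, rfl⟩
    have h1 : mk h ∈ K ⊓ Y := ⟨hK, hY⟩
    rw [hKY, Subgroup.mem_bot] at h1
    have hA : h ∈ A := by
      rw [← hker]
      exact h1
    have : h ∈ A ⊓ Subgroup.center G := ⟨hA, hZ⟩
    rw [hAZ] at this
    exact this

end Cfsg.Agent.Lib.Helper24.RU
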