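import Mathlib
import Cfsg.Prelude.Def_Characters
import Cfsg.Prelude.Def_Solvable
import Cfsg.Prelude.Def_Transfer
import Cfsg.Agent.Lib.Helper24.RU.Defs
import Cfsg.Agent.Lib.Helper11.Clifford
import Cfsg.Agent.Lib.Helper16.S4Recog

/-!
# S4751 farm, leaf N29 (architect helper24)

Keep the name, namespace and statement of `s4_iso` exactly; replace only the `sorry`
(auxiliary lemmas with fresh names may be added above it in this file).
-/

set_option autoImplicit false

namespace Cfsg.Agent.Lib.Helper24.RU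

open scoped ComplexConjugate

namespace Helper16

section
variable {G : Type*} [Group G]

/-- the four elements of a four-group -/
theorem enum_four (A : Subgroup G) (hA4 : Nat.card A = 4) (hA2 : ∀ x ∈ A, x ^ 2 = 1) {a b : G}
    (ha : a ∈ A) (hb : b ∈ A) (ha1 : a ≠ 1) (hb1 : b ≠ 1) (hab : a ≠ b) :
    ∀ x ∈ A, x = 1 ∨ x = a ∨ x = b ∨ x = a * b := by
  classical
  have hfin : Finite A := Nat.finite_of_card_ne_zero (by rw [hA4]; norm_num)
  have hainv : a⁻¹ = a := by
    have := hA2 a ha
    rw [sq] at this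
    exact inv_eq_of_mul_eq_one_left this
  have hab1 : a * b ≠ 1 := by
    intro h
    apply hab
    have : b = a⁻¹ := eq_inv_of_mul_eq_one_right h
    rw [this, hainv]
  have haba : a * b ≠ a := by
    intro h
    exact hb1 (mul_left_cancel (a := a) (by rw [h, mul_one]))
  have habb : a * b ≠ b := by
    intro h
    exact ha1 (mul_right_cancel (b := b) (by rw [h, one_mul]))
  let S : Finset G := {1, a, b, a * b}
  have hS : S.card = 4 := by
    have h3 : b ∉ ({a * b} : Finset G) := by
      simp only [Finset.mem_singleton]; exact fun h => habb h.symm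
    have h2 : a ∉ ({b, a * b} : Finset G) := by
      simp only [Finset.mem_insert, Finset.mem_singleton, not_or]
      exact ⟨hab, fun h => haba h.symm⟩
    have h1 : (1 : G) ∉ ({a, b, a * b} : Finset G) := by
      simp only [Finset.mem_insert, Finset.mem_singleton, not_or]
      exact ⟨fun h => ha1 h.symm, fun h => hb1 h.symm, fun h => hab1 h.symm⟩
    show ({1, a, b, a * b} : Finset G).card = 4
    rw [Finset.card_insert_of_notMem h1, Finset.card_insert_of_notMem h2,
      Finset.card_insert_of_notMem h3, Finset.card_singleton]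
  have hsub : (↑S : Set G) ⊆ (A : Set G) := by
    intro x hx
    simp only [S, Finset.coe_insert, Finset.coe_singleton, Set.mem_insert_iff,
      Set.mem_singleton_iff] at hx
    rcases hx with rfl | rfl | rfl | rfl
    · exact A.one_mem
    · exact ha
    · exact hb
    · exact A.mul_mem ha hb
  have hAn : (A : Set G).ncard = 4 := by
    rw [← hA4]
    exact (Nat.card_coe_set_eq (A : Set G)).symm
  have heq : (↑S : Set G) = (A : Set G) := by
    apply Set.eq_of_subset_of_ncard_le hsub _ (Set.toFinite _)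
    rw [hAn, Set.ncard_coe_finset, hS]
  intro x hx
  have hxS : x ∈ (↑S : Set G) := by rw [heq]; exact hx
  simpa [S] using hxS

/-- an element of order dividing three fixing a nonidentity element of a normal four-group
centralizes it -/
theorem fix_all (A : Subgroup G) [A.Normal] (hA4 : Nat.card A = 4) (hA2 : ∀ x ∈ A, x ^ 2 = 1)
    {y a : G} (hy3 : y ^ 3 = 1) (ha : a ∈ A) (ha1 : a ≠ 1) (hfix : y * a * y⁻¹ = a) :
    ∀ b ∈ A, y * b * y⁻¹ = b := by
  intro b hb
  by_cases hb1 : b = 1
  · subst hb1; simp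
  by_cases hba : b = a
  · subst hba; exact hfix
  have hab : a ≠ b := fun h => hba h.symm
  have hconj : y * b * y⁻¹ ∈ A := ‹A.Normal›.conj_mem b hb y
  have haa : a * a = 1 := by
    have := hA2 a ha
    rwa [sq] at this
  rcases enum_four A hA4 hA2 ha hb ha1 hb1 hab _ hconj with h | h | h | h
  · exfalso
    apply hb1
    have : b = y⁻¹ * (y * b * y⁻¹) * y := by group
    rw [this, h]; group
  · exfalso
    apply hba
    have e1 : b = y⁻¹ * (y * b * y⁻¹) * y := by group
    have e2 : a = y⁻¹ * (y * a * y⁻¹) * y := by group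
    rw [h] at e1
    rw [hfix] at e2
    exact e1.trans e2.symm
  · exact h
  · exfalso
    have h2 : y * (a * b) * y⁻¹ = b := by
      calc y * (a * b) * y⁻¹ = (y * a * y⁻¹) * (y * b * y⁻¹) := by group
        _ = a * (a * b) := by rw [hfix, h]
        _ = (a * a) * b := by group
        _ = b := by rw [haa, one_mul]
    have h3 : y ^ 3 * b * (y ^ 3)⁻¹ = a * b := by
      calc y ^ 3 * b * (y ^ 3)⁻¹ = y * (y * (y * b * y⁻¹) * y⁻¹) * y⁻¹ := by
            simp only [pow_succ, pow_zero, one_mul]; group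
        _ = y * (y * (a * b) * y⁻¹) * y⁻¹ := by rw [h]
        _ = y * b * y⁻¹ := by rw [h2]
        _ = a * b := h
    rw [hy3] at h3
    simp only [one_mul, inv_one, mul_one] at h3
    apply ha1
    exact mul_right_cancel (b := b) (by rw [one_mul]; exact h3.symm)

/-- no element of order six -/
theorem no_order_six (A H : Subgroup G) [A.Normal] (hA4 : Nat.card A = 4)
    (hA2 : ∀ x ∈ A, x ^ 2 = 1) (hC : H ⊓ Subgroup.centralizer (A : Set G) ≤ A)
    (g : G) (hg : g ∈ H) (h6 : orderOf g = 6) : False := by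
  have hg6 : g ^ 6 = 1 := by rw [← h6]; exact pow_orderOf_eq_one g
  have hy3 : (g ^ 2) ^ 3 = 1 := by rw [← pow_mul]; exact hg6
  have ht2 : (g ^ 3) ^ 2 = 1 := by rw [← pow_mul]; exact hg6
  have hy1 : g ^ 2 ≠ 1 := pow_ne_one_of_lt_orderOf (by norm_num) (by rw [h6]; norm_num)
  have ht1 : g ^ 3 ≠ 1 := pow_ne_one_of_lt_orderOf (by norm_num) (by rw [h6]; norm_num)
  have hyH : g ^ 2 ∈ H := H.pow_mem hg 2
  have htH : g ^ 3 ∈ H := H.pow_mem hg 3
  have hty : g ^ 3 * g ^ 2 = g ^ 2 * g ^ 3 := by rw [← pow_add, ← pow_add]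
  generalize g ^ 2 = y at hy3 hy1 hyH hty
  generalize g ^ 3 = t at ht2 ht1 htH hty
  have htinv : t⁻¹ = t := by
    rw [sq] at ht2
    exact inv_eq_of_mul_eq_one_left ht2
  -- `y` does not centralize `A`
  have hyC : ¬ ∀ b ∈ A, y * b * y⁻¹ = b := by
    intro hall
    have hyc : y ∈ Subgroup.centralizer (A : Set G) := by
      rw [Subgroup.mem_centralizer_iff]
      intro b hb
      have := hall b hb
      calc b * y = (y * b * y⁻¹) * y := by rw [this]
        _ = y * b := by group
    have hyA : y ∈ A := hC ⟨hyH, hyc⟩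
    have hy2 : y ^ 2 = 1 := hA2 y hyA
    apply hy1
    calc y = y ^ 3 * (y ^ 2)⁻¹ := by group
      _ = 1 := by rw [hy3, hy2]; simp
  apply hyC
  -- a nonidentity element of `A` fixed by `y`
  by_cases htC : ∀ b ∈ A, t * b * t⁻¹ = b
  · have htc : t ∈ Subgroup.centralizer (A : Set G) := by
      rw [Subgroup.mem_centralizer_iff]
      intro b hb
      have := htC b hb
      calc b * t = (t * b * t⁻¹) * t := by rw [this]
        _ = t * b := by group
    have htA : t ∈ A := hC ⟨htH, htc⟩
    refine fix_all A hA4 hA2 hy3 htA ht1 ?_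
    calc y * t * y⁻¹ = (t * y) * y⁻¹ := by rw [hty]
      _ = t := by group
  · push Not at htC
    obtain ⟨a0, ha0, hne⟩ := htC
    have ha0_1 : a0 ≠ 1 := by
      rintro rfl
      apply hne; simp
    have ha1A : t * a0 * t⁻¹ ∈ A := ‹A.Normal›.conj_mem a0 ha0 t
    have ha1_1 : t * a0 * t⁻¹ ≠ 1 := by
      intro h
      apply ha0_1
      have : a0 = t⁻¹ * (t * a0 * t⁻¹) * t := by group
      rw [this, h]; group
    have ht_a1 : t * (t * a0 * t⁻¹) * t⁻¹ = a0 := by
      rw [htinv]
      have htt : t * t = 1 := by rw [sq] at ht2; exact ht2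
      calc t * (t * a0 * t) * t = (t * t) * a0 * (t * t) := by group
        _ = a0 := by rw [htt, one_mul, mul_one]
    have henum := enum_four A hA4 hA2 ha0 ha1A ha0_1 ha1_1 (fun h => hne h.symm)
    have hcA : a0 * (t * a0 * t⁻¹) ∈ A := A.mul_mem ha0 ha1A
    have hinv0 : a0⁻¹ = a0 := by
      have := hA2 a0 ha0
      rw [sq] at this
      exact inv_eq_of_mul_eq_one_left this
    have hc1 : a0 * (t * a0 * t⁻¹) ≠ 1 := by
      intro h
      apply hne
      have : t * a0 * t⁻¹ = a0⁻¹ := eq_inv_of_mul_eq_one_right h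
      rw [this, hinv0]
    -- `A` is commutative
    have hcomm : ∀ u ∈ A, ∀ v ∈ A, u * v = v * u := by
      intro u hu v hv
      have h1 := hA2 u hu
      have h2 := hA2 v hv
      have h3 := hA2 (u * v) (A.mul_mem hu hv)
      rw [sq] at h1 h2 h3
      have iu : u⁻¹ = u := inv_eq_of_mul_eq_one_left h1
      have iv : v⁻¹ = v := inv_eq_of_mul_eq_one_left h2
      have iuv : (u * v)⁻¹ = u * v := inv_eq_of_mul_eq_one_left h3
      calc u * v = (u * v)⁻¹ := iuv.symm
        _ = v⁻¹ * u⁻¹ := mul_inv_rev u v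
        _ = v * u := by rw [iu, iv]
    -- `c = a0 * a1` is fixed by `t`
    have htc : t * (a0 * (t * a0 * t⁻¹)) * t⁻¹ = a0 * (t * a0 * t⁻¹) := by
      calc t * (a0 * (t * a0 * t⁻¹)) * t⁻¹
          = (t * a0 * t⁻¹) * (t * (t * a0 * t⁻¹) * t⁻¹) := by group
        _ = (t * a0 * t⁻¹) * a0 := by rw [ht_a1]
        _ = a0 * (t * a0 * t⁻¹) := hcomm _ ha1A _ ha0
    generalize hc : a0 * (t * a0 * t⁻¹) = c at hcA hc1 htc henum
    -- `d = y c y⁻¹` is fixed by `t` as well
    have hdA : y * c * y⁻¹ ∈ A := ‹A.Normal›.conj_mem c hcA y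
    have hd1 : y * c * y⁻¹ ≠ 1 := by
      intro h
      apply hc1
      have : c = y⁻¹ * (y * c * y⁻¹) * y := by group
      rw [this, h]; group
    have hyt' : y⁻¹ * t⁻¹ = t⁻¹ * y⁻¹ := by
      rw [← mul_inv_rev, ← mul_inv_rev, hty]
    have htd : t * (y * c * y⁻¹) * t⁻¹ = y * c * y⁻¹ := by
      calc t * (y * c * y⁻¹) * t⁻¹ = (t * y) * c * (y⁻¹ * t⁻¹) := by group
        _ = (y * t) * c * (t⁻¹ * y⁻¹) := by rw [hty, hyt']
        _ = y * (t * c * t⁻¹) * y⁻¹ := by group
        _ = y * c * y⁻¹ := by rw [htc]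
    have hd : y * c * y⁻¹ = c := by
      rcases henum _ hdA with h | h | h | h
      · exact absurd h hd1
      · exfalso
        apply hne
        rw [h] at htd
        exact htd
      · exfalso
        apply hne
        rw [h, ht_a1] at htd
        exact htd.symm
      · exact h
    exact fix_all A hA4 hA2 hy3 hcA hc1 hd

end

end Helper16

variable {G : Type*} [Group G] [Finite G]

/-- [N29] recognition of `S₄`: `H` of order 24 with a normal self-centralizing four-group has no element of order six; `Helper16.s4_of_card_24`. -/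
theorem s4_iso (A H : Subgroup G) [A.Normal] (hAH : A ≤ H) (hA4 : Nat.card A = 4)
    (hA2 : ∀ x ∈ A, x ^ 2 = 1) (hH : Nat.card H = 24)
    (hC : H ⊓ Subgroup.centralizer (A : Set G) ≤ A) :
    Nonempty (↥H ≃* Equiv.Perm (Fin 4)) := by
  refine Cfsg.Agent.Lib.Helper16.s4_of_card_24 hH ?_
  intro g h6
  refine Helper16.no_order_six A H hA4 hA2 hC (g : G) g.2 ?_
  rw [Subgroup.orderOf_coe]
  exact h6

end Cfsg.Agent.Lib.Helper24.RU
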