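import Mathlib
import Cfsg.Prelude.Def_Characters
import Cfsg.Prelude.Def_Solvable
import Cfsg.Prelude.Def_Transfer
import Cfsg.Agent.Lib.Helper24.RU.N05
import Cfsg.Agent.Lib.Helper24.RU.N07
import Cfsg.Agent.Lib.Helper24.RU.N14
import Cfsg.Agent.Lib.Helper24.RU.N15
import Cfsg.Agent.Lib.Helper24.RU.N16
import Cfsg.Agent.Lib.Helper24.RU.N17
import Cfsg.Agent.Lib.Helper24.RU.N19
import Cfsg.Agent.Lib.Helper24.RU.N20
import Cfsg.Agent.Lib.Helper24.RU.N25
import Cfsg.Agent.Lib.Helper24.RU.N26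
import Cfsg.Agent.Lib.Helper24.RU.N27
import Cfsg.Agent.Lib.Helper24.RU.N28
import Cfsg.Agent.Lib.Helper24.RU.N29


/-!
# S4751 farm: final assembly (architect helper24)

`main` is the statement of S4751, assembled from the leaves N05, N07, N14-N17, N19, N20, N25-N29.
-/

set_option autoImplicit false

namespace Cfsg.Agent.Lib.Helper24.RU

open scoped Pointwise

/-- The statement of S4751. -/
theorem main {G : Type*} [Group G] [Finite G] (p : ℕ) [Fact p.Prime] (χ : Cfsg.IrrCharacter G) (hfaith : ∀ g : G, (χ : G → ℂ) g = (χ : G → ℂ) 1 → g = 1) (hnl : (χ : G → ℂ) 1 ≠ 1) (hroot : ∀ g : G, p ∣ orderOf g → ∃ n : ℕ, 0 < n ∧ ((χ : G → ℂ) g) ^ n = 1) (hP : Cfsg.pCore p G ≠ ⊥) : ((Nat.card ↥(Cfsg.pCore p G)).factorization p = (Nat.card G).factorization p ∧ Cfsg.IsElementaryAbelian p (Cfsg.pCore p G) ∧ Subgroup.centralizer ((Cfsg.pCore p G : Subgroup G) : Set G) = Cfsg.pCore p G ⊔ Subgroup.center G ∧ Cfsg.pCore p G ⊓ Subgroup.center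 G = ⊥ ∧ (∀ lam mu : ↥(Cfsg.pCore p G) → ℂ, Cfsg.IsCharacter ↥(Cfsg.pCore p G) lam → lam 1 = 1 → lam ≠ (fun _ => (1 : ℂ)) → Cfsg.IsCharacter ↥(Cfsg.pCore p G) mu → mu 1 = 1 → mu ≠ (fun _ => (1 : ℂ)) → ∃ g : G, ∀ (x : G) (hx : x ∈ Cfsg.pCore p G) (hgx : g * x * g⁻¹ ∈ Cfsg.pCore p G), mu ⟨x, hx⟩ = lam ⟨g * x * g⁻¹, hgx⟩) ∧ (χ : G → ℂ) 1 = (Nat.card ↥(Cfsg.pCore p G) : ℂ) - 1) ∨ (p = 2 ∧ Odd (Nat.card ↥(Subgroup.center G)) ∧ ∃ H : Subgroup G, Nonempty (↥H ≃* Equiv.Perm (Fin 4)) ∧ H ⊓ Subgroup.center G = ⊥ ∧ H ⊔ Subgroup.center G = ⊤) := by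
  classical
  haveI : Fintype G := Fintype.ofFinite G
  have h : Hyp p (χ : G → ℂ) := ⟨χ.2, hfaith, hnl, hroot⟩
  have hA : ANP p (Cfsg.pCore p G) := pCore_anp h hP
  set Q : Subgroup G := Cfsg.pCore p G with hQ
  rcases sylow_or_two h hA with hsyl | ⟨hp2, S, hQS, hScard⟩
  · -- case (a)
    left
    refine ⟨hsyl, ⟨⟨⟨?_⟩⟩, exp_p h hA⟩, centralizer_eq h hA, inf_center h hA, trans_lin h hA,
      deg_eq h hA⟩
    intro a b
    exact Subtype.ext (hA.comm a a.2 b b.2)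
  · -- case (b)
    right
    subst hp2
    have hle : Nat.card Q ≤ 4 := card_le_four h hA S hQS hScard
    have hge : 3 ≤ Nat.card Q := three_le_card h hA
    have hQ4 : Nat.card Q = 4 := by
      obtain ⟨n, hn⟩ := (IsPGroup.iff_card.mp hA.pgroup)
      rw [hn] at hle hge ⊢
      have hn2 : n ≤ 2 := by
        by_contra hc
        push Not at hc
        have : 2 ^ 3 ≤ 2 ^ n := Nat.pow_le_pow_right (by norm_num) hc
        omega
      interval_cases n <;> omega
    have hS8 : Nat.card S = 8 := by rw [hScard, hQ4]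
    have hodd := center_odd h hA
    have hG := card_G h hA hQ4 S hQS hS8
    haveI : Q.Normal := hA.normal
    have hQ2 : ∀ x ∈ Q, x ^ 2 = 1 := exp_p h hA
    have hCen := centralizer_eq h hA
    have hInf := inf_center h hA
    obtain ⟨H, hQH, hH24, hHZ⟩ := exists_complement Q hQ4 hQ2 hCen hInf hodd hG
    refine ⟨rfl, hodd, H, ?_, hHZ, ?_⟩
    · apply s4_iso Q H hQH hQ4 hQ2 hH24
      rw [hCen]
      intro x hx
      obtain ⟨hxH, hxC⟩ := Subgroup.mem_inf.mp hx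
      -- modular law
      have hxC' : x ∈ ((Q : Set G) * (Subgroup.center G : Set G)) := by
        rw [← Subgroup.mul_normal]; exact hxC
      obtain ⟨a, ha, z, hz, rfl⟩ := Set.mem_mul.mp hxC'
      have hzH : z ∈ H := by
        have : z = a⁻¹ * (a * z) := by group
        rw [this]
        exact H.mul_mem (H.inv_mem (hQH ha)) hxH
      have hz1 : z = 1 := by
        have : z ∈ H ⊓ Subgroup.center G := Subgroup.mem_inf.mpr ⟨hzH, hz⟩
        rw [hHZ] at this
        exact Subgroup.mem_bot.mp this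
      rw [hz1, mul_one]
      exact ha
    · -- H ⊔ Z = ⊤ by cardinality
      have hdisj : Disjoint H (Subgroup.center G) := disjoint_iff.mpr hHZ
      have hinj := Subgroup.mul_injective_of_disjoint hdisj
      have hbij : Function.Bijective (fun g : ↥H × ↥(Subgroup.center G) => ((g.1 : G) * g.2)) := by
        apply Function.Injective.bijective_of_nat_card_le hinj
        rw [Nat.card_prod, hH24, hG]
      rw [eq_top_iff]
      intro g _
      obtain ⟨⟨a, z⟩, hg⟩ := hbij.2 g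
      rw [← hg]
      exact Subgroup.mul_mem_sup a.2 z.2

end Cfsg.Agent.Lib.Helper24.RU
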