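import Mathlib
import Cfsg.Prelude.Def_Characters
import Cfsg.Prelude.Def_Solvable
import Cfsg.Prelude.Def_Transfer
import Cfsg.Agent.Lib.Helper24.RU.Defs
import Cfsg.Agent.Lib.Helper11.Clifford
import Cfsg.Agent.Lib.Helper24.RU.N12
import Cfsg.Agent.Lib.Helper24.RU.N16

/-!
# S4751 farm, leaf N26 (architect helper24)

Keep the name, namespace and statement of `center_odd` exactly; replace only the `sorry`
(auxiliary lemmas with fresh names may be added above it in this file).
-/

set_option autoImplicit false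

namespace Cfsg.Agent.Lib.Helper24.RU

open scoped ComplexConjugate

variable {G : Type*} [Group G] [Finite G] {χ : G → ℂ}

/-- [N26] `|Z(G)|` is odd: an involution of `Z(G)` would lie in `C_G(A)`, hence in `A` (N12), hence in `A ⊓ Z(G) = ⊥` (N16). -/
theorem center_odd (h : Hyp 2 χ) {A : Subgroup G} (hA : ANP 2 A) :
    Odd (Nat.card ↥(Subgroup.center G)) := by
  by_contra hodd
  have heven : Even (Nat.card ↥(Subgroup.center G)) := Nat.not_odd_iff_even.mp hodd
  have : Fact (Nat.Prime 2) := ⟨Nat.prime_two⟩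
  obtain ⟨z, hz⟩ := exists_prime_orderOf_dvd_card' (G := ↥(Subgroup.center G)) 2
    (even_iff_two_dvd.mp heven)
  have hzG : orderOf (z : G) = 2 := by rw [Subgroup.orderOf_coe]; exact hz
  have hzc : (z : G) ∈ Subgroup.centralizer (A : Set G) := by
    rw [Subgroup.mem_centralizer_iff]
    intro a _
    exact (Subgroup.mem_center_iff.mp z.2 a)
  have hzA : (z : G) ∈ A := pElement_mem h hA hzc ⟨1, by rw [hzG, pow_one]⟩
  have hbot : (z : G) ∈ A ⊓ Subgroup.center G := ⟨hzA, z.2⟩
  rw [inf_center h hA, Subgroup.mem_bot] at hbot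
  rw [hbot, orderOf_one] at hzG
  exact absurd hzG (by decide)

end Cfsg.Agent.Lib.Helper24.RU
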